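import Mathlib
import Cfsg.Agent.Lib.PSolvable.Core
import Cfsg.Agent.Lib.Coprime.ThompsonFPF
import Cfsg.Agent.Lib.Coprime.Cocyclic

/-!
# A group of automorphisms `S₃` without common fixed points on a group of order prime to `3`

Restriction, quotients, lifting of fixed points and invariant Sylow subgroups.
-/

set_option autoImplicit false

namespace Cfsg.Agent.Lib.S3040Fpf54

open Subgroup
open Cfsg.Agent.Lib.Coprime
open scoped Pointwise

universe u

set_option linter.unusedSectionVars false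

variable {G : Type u} [Group G] [Finite G]

/-- Restriction of an automorphism. -/
noncomputable def res (φ : MulAut G) (H : Subgroup G) (h : ∀ x ∈ H, φ x ∈ H) : MulAut H :=
  restrictAut φ H (map_eq_of_forall_mem φ h)

theorem res_coe (φ : MulAut G) (H : Subgroup G) (h : ∀ x ∈ H, φ x ∈ H) (x : H) :
    ((res φ H h x : H) : G) = φ x := rfl

/-- The automorphism of a quotient. -/
noncomputable def quo (φ : MulAut G) (N : Subgroup G) [N.Normal] (h : ∀ x ∈ N, φ x ∈ N) :
    MulAut (G ⧸ N) :=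
  QuotientGroup.congr N N φ (map_eq_of_forall_mem φ h)

theorem quo_mk (φ : MulAut G) (N : Subgroup G) [N.Normal] (h : ∀ x ∈ N, φ x ∈ N) (x : G) :
    quo φ N h (x : G ⧸ N) = ((φ x : G) : G ⧸ N) := rfl

theorem res_cube {σ : MulAut G} (s3 : ∀ x, σ (σ (σ x)) = x) (H : Subgroup G)
    (h : ∀ x ∈ H, σ x ∈ H) (x : H) : res σ H h (res σ H h (res σ H h x)) = x :=
  Subtype.ext (s3 x)

theorem quo_cube {σ : MulAut G} (s3 : ∀ x, σ (σ (σ x)) = x) (N : Subgroup G) [N.Normal]
    (h : ∀ x ∈ N, σ x ∈ N) (q : G ⧸ N) : quo σ N h (quo σ N h (quo σ N h q)) = q := by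
  induction q using QuotientGroup.induction_on with
  | H x => rw [quo_mk, quo_mk, quo_mk, s3]

theorem not_three_dvd_subgroup (h3 : ¬ 3 ∣ Nat.card G) (H : Subgroup G) : ¬ 3 ∣ Nat.card H :=
  fun h => h3 (h.trans H.card_subgroup_dvd_card)

theorem eq_one_of_cube (h3 : ¬ 3 ∣ Nat.card G) {x : G} (hx : x ^ 3 = 1) : x = 1 := by
  rcases (Nat.dvd_prime Nat.prime_three).mp (orderOf_dvd_of_pow_eq_one hx) with h | h
  · exact orderOf_eq_one_iff.mp h
  · exact absurd (h ▸ orderOf_dvd_natCard x) h3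

/-- A permutation of cube one of a set of size prime to three has a fixed point. -/
theorem exists_fixed_of_cube {X : Type*} [Finite X] (h : ¬ 3 ∣ Nat.card X) (f : X → X)
    (hf : ∀ x, f (f (f x)) = x) : ∃ x, f x = x := by
  have := Fintype.ofFinite X
  haveI : Fact (Nat.Prime 3) := ⟨Nat.prime_three⟩
  let e : Equiv.Perm X := ⟨f, f ∘ f, fun x => hf x, fun x => hf x⟩
  obtain ⟨a, ha⟩ := Equiv.Perm.exists_fixed_point_of_prime (p := 3) (n := 1) (σ := e)
    (by rwa [← Nat.card_eq_fintype_card]) (Equiv.ext fun x => by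
      simp only [pow_one, pow_succ, pow_zero, one_mul, Equiv.Perm.mul_apply, Equiv.Perm.one_apply]
      exact hf x)
  exact ⟨a, ha⟩

/-- Fixed points of an automorphism of order dividing three lift. -/
theorem exists_fixed_mk {σ : MulAut G} (s3 : ∀ x, σ (σ (σ x)) = x) (h3 : ¬ 3 ∣ Nat.card G)
    (N : Subgroup G) [N.Normal] (h : ∀ x ∈ N, σ x ∈ N) {q : G ⧸ N} (hq : quo σ N h q = q) :
    ∃ y : G, σ y = y ∧ (y : G ⧸ N) = q := by
  obtain ⟨g, rfl⟩ := QuotientGroup.mk_surjective q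
  have hmem : ∀ n : N, g⁻¹ * σ (g * n) ∈ N := fun n => by
    have h1 : g⁻¹ * σ g ∈ N := QuotientGroup.eq.mp (by rw [quo_mk] at hq; exact hq.symm)
    rw [map_mul, ← mul_assoc]
    exact mul_mem h1 (h n n.2)
  obtain ⟨n, hn⟩ := exists_fixed_of_cube (not_three_dvd_subgroup h3 N)
    (fun n => (⟨g⁻¹ * σ (g * n), hmem n⟩ : N))
    (fun n => Subtype.ext (by simp only [mul_inv_cancel_left, s3, inv_mul_cancel_left]))
  refine ⟨g * n, ?_, QuotientGroup.eq.mpr (by simp)⟩
  have := congrArg (fun m : N => g * (m : G)) hn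
  simpa using this

/-- An invariant Sylow subgroup. -/
theorem exists_invariant_sylow {σ : MulAut G} (s3 : ∀ x, σ (σ (σ x)) = x)
    (h3 : ¬ 3 ∣ Nat.card G) (p : ℕ) [Fact p.Prime] : ∃ P : Sylow p G, σ • P = P := by
  obtain ⟨P₀⟩ := (inferInstance : Nonempty (Sylow p G))
  refine exists_fixed_of_cube (fun h => h3 ((h.trans P₀.card_dvd_index).trans
    P₀.1.index_dvd_card)) (fun P : Sylow p G => σ • P) fun P => ?_
  rw [← mul_smul, ← mul_smul, show σ * σ * σ = 1 from MulEquiv.ext s3, one_smul]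

theorem mem_of_smul_eq {σ : MulAut G} {p : ℕ} {P : Sylow p G} (h : σ • P = P) {x : G}
    (hx : x ∈ (P : Subgroup G)) : σ x ∈ (P : Subgroup G) := by
  rw [← h]
  exact Subgroup.smul_mem_pointwise_smul x σ _ hx

theorem smul_conj_smul (σ : MulAut G) (g : G) {p : ℕ} (P : Sylow p G) :
    σ • g • P = σ g • σ • P := by
  rw [Sylow.smul_def, Sylow.smul_def, ← mul_smul, ← mul_smul]
  congr 1
  exact MulEquiv.ext fun x => by simp [MulAut.mul_apply]

/-- The fixed points are transitive on the invariant Sylow subgroups. -/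
theorem exists_fixed_conj_sylow {σ : MulAut G} (s3 : ∀ x, σ (σ (σ x)) = x)
    (h3 : ¬ 3 ∣ Nat.card G) {p : ℕ} [Fact p.Prime] {P Q : Sylow p G} (hP : σ • P = P)
    (hQ : σ • Q = Q) : ∃ c, σ c = c ∧ c • P = Q := by
  obtain ⟨g, hg⟩ := MulAction.exists_smul_eq G P Q
  have hmem : ∀ n : MulAction.stabilizer G P, g⁻¹ * σ (g * n) ∈ MulAction.stabilizer G P :=
    fun n => by
      have h1 : σ (g * n) • P = Q := by
        calc σ (g * n) • P = σ (g * n) • σ • P := congrArg (σ (g * n) • ·) hP.symm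
          _ = σ • (g * n : G) • P := (smul_conj_smul σ _ P).symm
          _ = σ • Q := by rw [mul_smul, show (n : G) • P = P from n.2, hg]
          _ = Q := hQ
      rw [MulAction.mem_stabilizer_iff, mul_smul, h1, inv_smul_eq_iff, hg]
  obtain ⟨n, hn⟩ := exists_fixed_of_cube (not_three_dvd_subgroup h3 _)
    (fun n => (⟨g⁻¹ * σ (g * n), hmem n⟩ : MulAction.stabilizer G P))
    (fun n => Subtype.ext (by simp only [mul_inv_cancel_left, s3, inv_mul_cancel_left]))
  refine ⟨g * n, ?_, by rw [mul_smul, show (n : G) • P = P from n.2, hg]⟩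
  have := congrArg (fun m : MulAction.stabilizer G P => g * (m : G)) hn
  simpa using this

/-- The hypothesis: `σ, τ` generate an image of `S₃` without common fixed point. -/
structure Fpf (G : Type u) [Group G] (σ τ : MulAut G) : Prop where
  s3 : ∀ x, σ (σ (σ x)) = x
  t2 : ∀ x, τ (τ x) = x
  rel : ∀ x, τ (σ x) = σ (σ (τ x))
  fpf : ∀ x, σ x = x → τ x = x → x = 1
  three : ¬ 3 ∣ Nat.card G

namespace Fpf

variable {σ τ : MulAut G} (hf : Fpf G σ τ)
include hf

theorem tau_fixed {c : G} (hc : σ c = c) : σ (τ c) = τ c := by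
  have h := hf.rel c
  rw [hc] at h
  conv_lhs => rw [h]
  exact hf.s3 _

theorem tau_eq_inv {c : G} (hc : σ c = c) : τ c = c⁻¹ := by
  have hin : ∀ x ∈ fixedBy σ, τ x ∈ fixedBy σ := fun x hx => hf.tau_fixed hx
  have hff : MonoidHom.FixedPointFree (res τ (fixedBy σ) hin : MulAut (fixedBy σ)) :=
    fun x hx => Subtype.ext (hf.fpf x x.2 (congrArg Subtype.val hx))
  have h2 : Function.Involutive (res τ (fixedBy σ) hin : MulAut (fixedBy σ)) :=
    fun x => Subtype.ext (hf.t2 x)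
  exact congrArg Subtype.val
    (congrFun (hff.coe_eq_inv_of_involutive h2) (⟨c, hc⟩ : fixedBy σ))

theorem fixed_comm {a b : G} (ha : σ a = a) (hb : σ b = b) : a * b = b * a := by
  have h := hf.tau_eq_inv (c := a * b) (by rw [map_mul, ha, hb])
  rw [map_mul, hf.tau_eq_inv ha, hf.tau_eq_inv hb, ← mul_inv_rev, inv_inj] at h
  exact h.symm

theorem eq_one_of_fixed_two {x : G} (hx : σ x = x) {k : ℕ} (hk : x ^ 2 ^ k = 1) : x = 1 := by
  induction k generalizing x with
  | zero => simpa using hk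
  | succ k ih =>
    have hy : x ^ 2 = 1 := ih (x := x ^ 2) (by rw [map_pow, hx])
      (by rw [← pow_mul, ← pow_succ']; exact hk)
    refine hf.fpf x hx ?_
    rw [hf.tau_eq_inv hx, inv_eq_iff_mul_eq_one, ← sq, hy]

theorem eq_one_of_fixed_pGroup {P : Subgroup G} (hP : IsPGroup 2 P) {x : G} (hx : σ x = x)
    (hxP : x ∈ P) : x = 1 := by
  obtain ⟨k, hk⟩ := hP ⟨x, hxP⟩
  exact hf.eq_one_of_fixed_two hx (congrArg Subtype.val hk)

theorem odd_orderOf {x : G} (hx : σ x = x) : Odd (orderOf x) := by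
  by_contra h
  obtain ⟨m, hm⟩ := Nat.not_odd_iff_even.mp h
  have h1 : x ^ m = 1 := hf.eq_one_of_fixed_two (k := 1) (by rw [map_pow, hx])
    (by rw [← pow_mul, pow_one, show m * 2 = orderOf x by omega, pow_orderOf_eq_one])
  have h2 := Nat.le_of_dvd (Nat.pos_of_ne_zero fun h0 => by
    have := orderOf_pos x; omega) (orderOf_dvd_of_pow_eq_one h1)
  have := orderOf_pos x
  omega

theorem restrict (H : Subgroup G) (hs : ∀ x ∈ H, σ x ∈ H) (ht : ∀ x ∈ H, τ x ∈ H) :
    Fpf H (res σ H hs) (res τ H ht) where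
  s3 := res_cube hf.s3 H hs
  t2 x := Subtype.ext (hf.t2 x)
  rel x := Subtype.ext (hf.rel x)
  fpf x h1 h2 := Subtype.ext (hf.fpf x (congrArg Subtype.val h1) (congrArg Subtype.val h2))
  three := not_three_dvd_subgroup hf.three H

theorem quotient (N : Subgroup G) [N.Normal] (hs : ∀ x ∈ N, σ x ∈ N) (ht : ∀ x ∈ N, τ x ∈ N) :
    Fpf (G ⧸ N) (quo σ N hs) (quo τ N ht) where
  s3 := quo_cube hf.s3 N hs
  t2 q := by
    induction q using QuotientGroup.induction_on with
    | H x => rw [quo_mk, quo_mk, hf.t2]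
  rel q := by
    induction q using QuotientGroup.induction_on with
    | H x => rw [quo_mk, quo_mk, quo_mk, quo_mk, quo_mk, hf.rel]
  fpf q h1 h2 := by
    obtain ⟨y, hy, rfl⟩ := exists_fixed_mk hf.s3 hf.three N hs h1
    rw [quo_mk, hf.tau_eq_inv hy, QuotientGroup.mk_inv] at h2
    obtain ⟨m, hm⟩ := hf.odd_orderOf hy
    have h3 : ((y : G ⧸ N)) ^ 2 = 1 := by rw [sq]; nth_rw 1 [← h2]; exact inv_mul_cancel _
    have h4 : (y : G ⧸ N) ^ orderOf y = 1 := by
      rw [← QuotientGroup.mk_pow, pow_orderOf_eq_one, QuotientGroup.mk_one]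
    rw [hm, pow_succ, pow_mul, h3, one_pow, one_mul] at h4
    exact h4
  three h := hf.three (h.trans N.card_quotient_dvd_card)

/-- An invariant Sylow `2`-subgroup. -/
theorem exists_sylow : ∃ S : Sylow 2 G,
    (∀ x ∈ (S : Subgroup G), σ x ∈ (S : Subgroup G)) ∧
      ∀ x ∈ (S : Subgroup G), τ x ∈ (S : Subgroup G) := by
  haveI : Fact (Nat.Prime 2) := ⟨Nat.prime_two⟩
  obtain ⟨P, hP⟩ := exists_invariant_sylow hf.s3 hf.three 2
  have hrel : τ * σ = σ * σ * τ := MulEquiv.ext hf.rel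
  have hQ : σ • τ • P = τ • P := by
    have h1 : (σ * σ) • τ • P = τ • P := by
      rw [← mul_smul, ← hrel, mul_smul, hP]
    conv_lhs => rw [← h1]
    rw [← mul_smul, ← mul_smul, ← mul_assoc, show σ * σ * σ = 1 from MulEquiv.ext hf.s3, one_mul]
  obtain ⟨c, hc, hcP⟩ := exists_fixed_conj_sylow hf.s3 hf.three hP hQ
  obtain ⟨m, hm⟩ := hf.odd_orderOf hc
  set d := c ^ (m + 1) with hd
  have hd2 : d * d = c := by
    rw [hd, ← pow_add, show m + 1 + (m + 1) = orderOf c + 1 by omega, pow_succ,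
      pow_orderOf_eq_one, one_mul]
  have hdf : σ d = d := by rw [hd, map_pow, hc]
  refine ⟨d • P, fun x hx => mem_of_smul_eq ?_ hx, fun x hx => mem_of_smul_eq ?_ hx⟩
  · rw [smul_conj_smul, hdf, hP]
  · rw [smul_conj_smul, hf.tau_eq_inv hdf, ← hcP, ← mul_smul, ← hd2, ← mul_assoc,
      inv_mul_cancel, one_mul]

end Fpf

end Cfsg.Agent.Lib.S3040Fpf54
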