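import Mathlib
import Cfsg.Agent.Lib.S3040Fpf54.Basic
import Cfsg.Agent.Lib.Coprime.ThompsonFull
import Cfsg.Agent.Lib.Coprime.Cocyclic

/-!
# An automorphism of order three of a group of odd order acting on a `2`-group

If `s` is fixed-point-free on the `2`-group `V` and `Y` of odd order prime to `3` acts faithfully,
compatibly with `σ` on `Y`, then `σ` is trivial on `Y`.
-/

set_option autoImplicit false
set_option linter.unusedSectionVars false

namespace Cfsg.Agent.Lib.S3040Fpf54

open Subgroup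
open Cfsg.Agent.Lib.Coprime

universe u v

variable {Y : Type u} [Group Y] [Finite Y] {V : Type v} [Group V] [Finite V]

theorem fixed_pow {φ : Y →* MulAut V} {e : Y} {x : V} (h : φ e x = x) :
    ∀ k : ℕ, φ (e ^ k) x = x := by
  intro k
  induction k with
  | zero => rw [pow_zero, map_one]; rfl
  | succ k ih => rw [pow_succ, map_mul, MulAut.mul_apply, h, ih]

theorem fixed_inv {φ : Y →* MulAut V} {e : Y} {x : V} (h : φ e x = x) : φ e⁻¹ x = x := by
  conv_lhs => rw [← h]
  rw [← MulAut.mul_apply, ← map_mul, inv_mul_cancel, map_one]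
  rfl

theorem exists_pow_eq_of_prime {Z : Type u} [Group Z] [Finite Z] {q : ℕ} (hq : q.Prime) {x : Z}
    (hx : x ^ q = 1) {i : ℕ} (hne : x ^ i ≠ 1) : ∃ k : ℕ, (x ^ i) ^ k = x := by
  haveI := Fact.mk hq
  have hord : orderOf x = q := orderOf_eq_prime hx fun h => hne (by rw [h, one_pow])
  have hcop : i.Coprime q := by
    refine (hq.coprime_iff_not_dvd.mpr fun h => hne ?_).symm
    obtain ⟨c, rfl⟩ := h
    rw [pow_mul, hx, one_pow]
  obtain ⟨k, hk⟩ := exists_pow_eq_self_of_coprime (x := x) (n := i) (hord.symm ▸ hcop)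
  exact ⟨k, hk⟩

theorem mul_rot {σ : MulAut Y} (s3 : ∀ y, σ (σ (σ y)) = y) (u : Y) :
    (u⁻¹ * σ u) * σ (u⁻¹ * σ u) * σ (σ (u⁻¹ * σ u)) = 1 := by
  simp only [map_mul, map_inv, s3]
  group

section Act

variable (φ : Y →* MulAut V) {σ : MulAut Y} {s : MulAut V}
  (hs3 : ∀ x, s (s (s x)) = x) (hfp : ∀ x, s x = x → x = 1)
  (hc : ∀ y x, φ (σ y) (s x) = s (φ y x))
include hs3 hfp hc

theorem fix_step (u : Y) {x : V} (hx : φ (u⁻¹ * σ u) x = x) :
    φ (u⁻¹ * σ u) (s x) = s x := by
  have hff : MonoidHom.FixedPointFree (s : MulAut V) := hfp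
  have hprod : ∀ w, w * s w * s (s w) = 1 := fun w => by
    obtain ⟨g, rfl⟩ := hff.commutatorMap_surjective w
    simp only [MonoidHom.commutatorMap_apply, div_eq_mul_inv, MulEquiv.coe_toMonoidHom, map_mul, map_inv, MonoidHom.coe_coe, hs3]
    group
  have ht : ∀ w, w * φ (u⁻¹ * σ u) (s w) * φ (u⁻¹ * σ (σ u)) (s (s w)) = 1 := fun w => by
    have h := congrArg (φ u⁻¹) (hprod (φ u w))
    rw [map_one, map_mul, map_mul, ← hc, ← hc] at h
    have k : ∀ b x, φ u⁻¹ (φ b x) = φ (u⁻¹ * b) x := fun b x => by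
      rw [map_mul, MulAut.mul_apply]
    simp only [k, inv_mul_cancel, map_one, MulAut.one_apply] at h
    exact h
  have h1 := ht (s (s x))
  rw [hs3, hx] at h1
  have h2 := hprod (s (s x))
  rw [hs3] at h2
  have h3 : φ (u⁻¹ * σ (σ u)) (s x) = s x := mul_left_cancel (h1.trans h2.symm)
  have h4 : φ (σ (u⁻¹ * σ u)) (s x) = s x := by rw [hc, hx]
  conv_lhs => rw [show u⁻¹ * σ u = (u⁻¹ * σ (σ u)) * (σ (u⁻¹ * σ u))⁻¹ by
    simp only [map_mul, map_inv]; group]
  rw [map_mul, MulAut.mul_apply, fixed_inv h4, h3]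

theorem fix_image (u : Y) {x : V} (hx : φ (u⁻¹ * σ u) x = x) :
    φ (σ (u⁻¹ * σ u)) x = x := by
  have h := fix_step φ hs3 hfp hc u (fix_step φ hs3 hfp hc u hx)
  calc φ (σ (u⁻¹ * σ u)) x = φ (σ (u⁻¹ * σ u)) (s (s (s x))) := by rw [hs3]
    _ = s (φ (u⁻¹ * σ u) (s (s x))) := hc _ _
    _ = x := by rw [h, hs3]

/-- The commutative case. -/
theorem eq_of_fpf (hY : Odd (Nat.card Y)) {q : ℕ} [Fact q.Prime] (hq : IsPGroup q Y) (hq2 : 2 ≠ q)
    (hV : IsPGroup 2 V) (hinj : Function.Injective φ) (hs3' : ∀ y, σ (σ (σ y)) = y)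
    (hfY : ∀ y, σ y = y → y = 1) (y : Y) : y = 1 := by
  haveI : Fact (Nat.Prime 2) := ⟨Nat.prime_two⟩
  haveI : Finite (V ⋊[φ] Y) := Finite.of_equiv _ SemidirectProduct.equivProd.symm
  let e : MulAut (V ⋊[φ] Y) := SemidirectProduct.congr s σ fun g => by
    ext x; exact (hc g x).symm
  have hl : ∀ w, (e w).left = s w.left := fun _ => rfl
  have hr : ∀ w, (e w).right = σ w.right := fun _ => rfl
  have hff : MonoidHom.FixedPointFree (e : V ⋊[φ] Y →* V ⋊[φ] Y) := fun w (hw : e w = w) =>
    SemidirectProduct.ext (hfp _ (by rw [← hl, hw])) (hfY _ (by rw [← hr, hw]))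
  have he3 : (e : MulAut (V ⋊[φ] Y)) ^ 3 = 1 := MulEquiv.ext fun w => by
    show e (e (e w)) = w
    exact SemidirectProduct.ext (by rw [hl, hl, hl, hs3]) (by rw [hr, hr, hr, hs3'])
  have hnil := isNilpotent_of_fixedPointFree' e hff Nat.prime_three he3
  obtain ⟨R₁, hR₁⟩ := ((hV.of_surjective _ (SemidirectProduct.inl : V →* V ⋊[φ] Y).rangeRestrict_surjective)).exists_le_sylow
  obtain ⟨R₂, hR₂⟩ := ((hq.of_surjective _ (SemidirectProduct.inr : Y →* V ⋊[φ] Y).rangeRestrict_surjective)).exists_le_sylow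
  have := normal_of_isNilpotent hnil R₁
  have := normal_of_isNilpotent hnil R₂
  refine hinj ((MulEquiv.ext fun x => ?_).trans (map_one φ).symm)
  have h := commute_of_normal_of_disjoint (R₁ : Subgroup (V ⋊[φ] Y)) R₂ ‹_› ‹_›
    (IsPGroup.disjoint_of_ne 2 q hq2 _ _ R₁.2 R₂.2) _ _ (hR₁ ⟨x, rfl⟩) (hR₂ ⟨y, rfl⟩)
  have h2 := SemidirectProduct.inl_aut (φ := φ) y x
  rw [← h.eq, mul_assoc, ← map_mul, mul_inv_cancel, map_one, mul_one] at h2
  exact SemidirectProduct.inl_injective h2

end Act

theorem centralise_aux : ∀ n : ℕ, ∀ (Y : Type u) [Group Y] [Finite Y], Nat.card Y = n →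
    ∀ {V : Type v} [Group V] [Finite V] (φ : Y →* MulAut V) (σ : MulAut Y) (s : MulAut V),
    Function.Injective φ → IsPGroup 2 V → Odd (Nat.card Y) → ¬ 3 ∣ Nat.card Y →
    (∀ y, σ (σ (σ y)) = y) → (∀ x, s (s (s x)) = x) → (∀ x, s x = x → x = 1) →
    (∀ y x, φ (σ y) (s x) = s (φ y x)) → ∀ y, σ y = y := by
  intro n
  induction n using Nat.strong_induction_on with
  | _ n ih =>
  intro Y _ _ hn V _ _ φ σ s hinj hV hodd h3 hσ hs3 hfp hc
  have hfix : ∀ H : Subgroup Y, (∀ x ∈ H, σ x ∈ H) → H ≠ ⊤ → ∀ x ∈ H, σ x = x := by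
    intro H hH hne x hx
    have hlt : Nat.card H < n := hn ▸ lt_of_le_of_ne H.card_le_card_group
      fun h => hne (H.eq_top_of_card_eq h)
    exact congrArg Subtype.val (ih _ hlt H rfl (φ.comp H.subtype) (res σ H hH) s
      (hinj.comp H.subtype_injective) hV (hodd.of_dvd_nat H.card_subgroup_dvd_card)
      (not_three_dvd_subgroup h3 H) (res_cube hσ H hH) hs3 hfp (fun y x => hc y x) ⟨x, hx⟩)
  -- reduce to a group of prime power order
  by_cases hsyl : ∀ (q : ℕ) [Fact q.Prime] (P : Sylow q Y), σ • P = P → (P : Subgroup Y) ≠ ⊤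
  · have htop : fixedBy σ = ⊤ := by
      refine index_eq_one.mp (Nat.eq_one_iff_not_exists_prime_dvd.mpr fun q hq hd => ?_)
      haveI := Fact.mk hq
      obtain ⟨P, hP⟩ := exists_invariant_sylow hσ h3 q
      exact P.not_dvd_index (hd.trans (index_dvd_of_le fun x hx =>
        hfix _ (fun z hz => mem_of_smul_eq hP hz) (hsyl q P hP) x hx))
    exact fun y => htop.ge (mem_top y)
  push Not at hsyl
  obtain ⟨q, hqf, P, -, hPtop⟩ := hsyl
  have hqY : IsPGroup q Y := fun x => by
    obtain ⟨k, hk⟩ := P.2 ⟨x, hPtop ▸ mem_top x⟩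
    exact ⟨k, congrArg Subtype.val hk⟩
  rcases subsingleton_or_nontrivial Y with h | h
  · exact fun y => Subsingleton.elim _ _
  have hq2 : 2 ≠ q := fun h2 => by
    obtain ⟨k, hk0, hk⟩ := (IsPGroup.nontrivial_iff_card (hG := hqY)).mp h
    rw [hk, ← h2] at hodd
    exact absurd (Nat.even_pow.mpr ⟨even_two, hk0.ne'⟩) (Nat.not_even_iff_odd.mpr hodd)
  -- the subgroup generated by `u⁻¹ σ u`
  set D : Subgroup Y := closure {y | ∃ u, u⁻¹ * σ u = y} with hD
  have hDinv : ∀ x ∈ D, σ x ∈ D := fun x hx => by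
    have hle : D ≤ D.comap σ.toMonoidHom := (closure_le _).2 fun y ⟨u, hu⟩ =>
      subset_closure ⟨σ u, by rw [MulEquiv.coe_toMonoidHom, ← hu, map_mul, map_inv]⟩
    exact hle hx
  have hone : ∀ u, σ (u⁻¹ * σ u) = u⁻¹ * σ u → σ u = u := fun u hu => by
    have h := mul_rot hσ u
    rw [hu, hu, ← pow_two, ← pow_succ] at h
    exact (inv_mul_eq_one.mp (eq_one_of_cube h3 h)).symm
  by_cases hDtop : D = ⊤
  swap
  · exact fun u => hone u (hfix D hDinv hDtop _ (subset_closure ⟨u, rfl⟩))
  by_cases hcomm : ∀ a b : Y, a * b = b * a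
  · -- `σ` is fixed-point-free on `Y`
    have hfY : ∀ y, σ y = y → y = 1 := fun y hy => by
      have hform : ∀ x ∈ D, ∃ u, u⁻¹ * σ u = x := fun x hx => by
        induction hx using closure_induction with
        | mem x hx => exact hx
        | one => exact ⟨1, by simp⟩
        | mul a b _ _ ha hb =>
          obtain ⟨u, rfl⟩ := ha
          obtain ⟨w, rfl⟩ := hb
          refine ⟨u * w, ?_⟩
          rw [mul_inv_rev, map_mul]
          simp only [mul_assoc]
          rw [hcomm (σ u) (σ w), ← mul_assoc w⁻¹, hcomm w⁻¹ u⁻¹]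
          simp only [mul_assoc]
          rw [← mul_assoc w⁻¹, hcomm (w⁻¹ * σ w) (σ u)]
        | inv a _ ha =>
          obtain ⟨u, rfl⟩ := ha
          exact ⟨u⁻¹, by rw [map_inv, inv_inv, mul_inv_rev, inv_inv, hcomm u]⟩
      obtain ⟨u, hu⟩ := hform y (hDtop ▸ mem_top y)
      subst hu
      rw [hone u hy, inv_mul_cancel]
    intro y
    rw [eq_of_fpf φ hs3 hfp hc hodd hqY hq2 hV hinj hσ hfY y, map_one]
  · -- the commutator subgroup and `q`-th powers are central
    haveI : Group.IsNilpotent Y := hqY.isNilpotent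
    let mk : Y →* Abelianization Y := Abelianization.of
    let Q : Subgroup Y := ((powMonoidHom q : Abelianization Y →* Abelianization Y).range).comap mk
    have hQinv : ∀ x ∈ Q, σ x ∈ Q := fun x ⟨w, hw⟩ => by
      obtain ⟨w', rfl⟩ := QuotientGroup.mk_surjective w
      refine ⟨mk (σ w'), ?_⟩
      have h1 : Abelianization.map σ.toMonoidHom (mk w' ^ q) =
          Abelianization.map σ.toMonoidHom (mk x) := congrArg _ hw
      rw [map_pow] at h1
      exact h1
    have hQtop : Q ≠ ⊤ := fun h => by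
      have hsurj : Function.Surjective (powMonoidHom q : Abelianization Y →* Abelianization Y) := by
        intro w
        obtain ⟨x, rfl⟩ := QuotientGroup.mk_surjective w
        exact (h.ge (mem_top x) : x ∈ Q)
      have hinj' := Finite.injective_iff_surjective.mpr hsurj
      haveI : Nontrivial (Abelianization Y) :=
        QuotientGroup.nontrivial_iff.mpr (Group.IsSolvable.commutator_lt_top_of_nontrivial Y).ne
      have hqA : IsPGroup q (Abelianization Y) := hqY.to_quotient _
      obtain ⟨k, hk0, hk⟩ := (IsPGroup.nontrivial_iff_card (hG := hqA)).mp inferInstance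
      obtain ⟨w, hw⟩ := exists_prime_orderOf_dvd_card' q (hk ▸ dvd_pow_self q hk0.ne')
      have : w = 1 := hinj' (by simp [powMonoidHom_apply, ← hw, pow_orderOf_eq_one])
      rw [this, orderOf_one] at hw
      exact (Fact.out : q.Prime).one_lt.ne hw
    have hcen : ∀ x ∈ Q, (∀ w, w * x * w⁻¹ ∈ Q) → x ∈ center Y := by
      intro x hx _
      have hle : D ≤ centralizer {x} := (closure_le _).2 fun y ⟨u, hu⟩ => by
        have hxu : u * x * u⁻¹ ∈ Q := (inferInstance : Q.Normal).conj_mem x hx u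
        have h1 := hfix Q hQinv hQtop _ hxu
        rw [map_mul, map_mul, hfix Q hQinv hQtop x hx, map_inv] at h1
        rw [SetLike.mem_coe, mem_centralizer_singleton_iff, ← hu]
        calc u⁻¹ * σ u * x = u⁻¹ * (σ u * x * (σ u)⁻¹) * σ u := by group
          _ = x * (u⁻¹ * σ u) := by rw [h1]; group
      refine mem_center_iff.mpr fun w => ?_
      exact mem_centralizer_singleton_iff.mp (hle (hDtop ▸ mem_top w))
    intro u
    by_contra hu
    set y := u⁻¹ * σ u with hy
    set a := σ y with ha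
    have hrel : σ a = (y * a)⁻¹ := eq_inv_of_mul_eq_one_right (mul_rot hσ u)
    have hy1 : σ y ≠ y := fun h => hu (hone u h)
    have hnc : y * a ≠ a * y := fun h => by
      have hin : ∀ x ∈ closure {y, a}, σ x ∈ closure {y, a} := fun x hx => by
        have hle : closure {y, a} ≤ (closure {y, a}).comap σ.toMonoidHom := by
          rw [closure_le]
          rintro x (rfl | rfl)
          · exact subset_closure (Or.inr rfl)
          · show σ a ∈ closure {y, a}
            rw [hrel]
            exact inv_mem (mul_mem (subset_closure (Or.inl rfl)) (subset_closure (Or.inr rfl)))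
        exact hle hx
      refine hy1 (hfix _ hin (fun htop => hcomm fun b c => ?_) y (subset_closure (Or.inl rfl)))
      have hm := isMulCommutative_closure_pair (show Commute y a from h)
      exact congrArg Subtype.val (hm.is_comm.comm
        ⟨b, htop ▸ mem_top b⟩ ⟨c, htop ▸ mem_top c⟩)
    set z := a * y * a⁻¹ * y⁻¹ with hz
    have hzQ : z ∈ Q := ⟨1, by
      simp only [map_one]
      symm
      show mk (a * y * a⁻¹ * y⁻¹) = 1
      simp only [map_mul, map_inv]
      rw [mul_comm (mk a)]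
      group⟩
    have hzc : ∀ w, w * z = z * w := fun w =>
      mem_center_iff.mp (hcen z hzQ fun w => (inferInstance : Q.Normal).conj_mem z hzQ w) w
    have hyqQ : ∀ w : Y, w ^ q ∈ Q := fun w => ⟨mk w, by simp⟩
    have hcq : ∀ w x : Y, w * x ^ q = x ^ q * w := fun w x =>
      mem_center_iff.mp (hcen _ (hyqQ x) fun w' => (inferInstance : Q.Normal).conj_mem _ (hyqQ x) w') w
    have hay : a * y = z * y * a := by rw [hz]; group
    have hconj : ∀ m : ℕ, a ^ m * y = z ^ m * y * a ^ m := by
      intro m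
      induction m with
      | zero => simp
      | succ m ih =>
        rw [pow_succ a, mul_assoc, hay, ← mul_assoc, ← mul_assoc, hzc, mul_assoc z, ih,
          pow_succ' z]
        simp only [mul_assoc]
    have hzq : z ^ q = 1 := by
      have h := hconj q
      have h2 : a ^ q * y = y * a ^ q := (hcq y a).symm
      rw [h2] at h
      exact mul_eq_right.mp (mul_right_cancel h.symm)
    have hya : ∀ m : ℕ, (y * a) ^ m = z ^ m.choose 2 * y ^ m * a ^ m := by
      intro m
      induction m with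
      | zero => simp
      | succ m ih =>
        have hzy : ∀ i j : ℕ, y ^ j * z ^ i = z ^ i * y ^ j := fun i j =>
          ((show Commute y z from hzc y).pow_pow j i).eq
        calc (y * a) ^ (m + 1) = z ^ m.choose 2 * y ^ m * (a ^ m * y) * a := by
              rw [pow_succ, ih]; group
          _ = z ^ m.choose 2 * (y ^ m * z ^ m) * y * (a ^ m * a) := by rw [hconj]; group
          _ = z ^ (m + 1).choose 2 * y ^ (m + 1) * a ^ (m + 1) := by
              rw [hzy, Nat.choose_succ_succ' m 1, Nat.choose_one_right, pow_succ y, pow_succ a,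
                add_comm m, pow_add]
              simp only [mul_assoc]
    have hyq : y ^ q = 1 := by
      have hfixq := hfix Q hQinv hQtop _ (hyqQ y)
      have haq : a ^ q = y ^ q := by rw [ha, ← map_pow, hfixq]
      have h2 : σ (σ (y ^ q)) = ((y * a) ^ q)⁻¹ := by
        rw [map_pow, ← ha, map_pow, hrel, inv_pow]
      rw [hfixq, hfixq, hya, haq] at h2
      obtain ⟨c, hcq'⟩ := (Fact.out : q.Prime).dvd_choose_self (k := 2) two_ne_zero
        (lt_of_le_of_ne (Fact.out : q.Prime).two_le hq2)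
      rw [hcq', pow_mul, hzq, one_pow, one_mul, eq_inv_iff_mul_eq_one, ← pow_two, ← pow_succ'] at h2
      exact eq_one_of_cube h3 h2
    have hz1 : z ≠ 1 := fun h => hnc (by rw [hay, h, one_mul])
    -- the covering
    haveI : (zpowers z).Normal := ⟨fun w hw g => by
      obtain ⟨k, rfl⟩ := mem_zpowers_iff.mp hw
      rw [((show Commute g z from hzc g).zpow_right k).eq, mul_inv_cancel_right]
      exact zpow_mem (mem_zpowers z) k⟩
    set E : Subgroup Y := zpowers z ⊔ zpowers y with hE
    have hform : ∀ e ∈ E, ∃ i j : ℕ, z ^ i * y ^ j = e := fun e he => by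
      obtain ⟨b, hb, c, hc', rfl⟩ := mem_sup_of_normal_left.mp he
      obtain ⟨i, hi⟩ := (isOfFinOrder_of_finite z).mem_powers_iff_mem_zpowers.mpr hb
      obtain ⟨j, hj⟩ := (isOfFinOrder_of_finite y).mem_powers_iff_mem_zpowers.mpr hc'
      exact ⟨i, j, by rw [← hi, ← hj]⟩
    have hzy : ∀ i j : ℕ, y ^ j * z ^ i = z ^ i * y ^ j := fun i j =>
      ((show Commute y z from hzc y).pow_pow j i).eq
    have hEc : ∀ b c : E, b * c = c * b := fun b c => by
      obtain ⟨i, j, hb⟩ := hform b b.2
      obtain ⟨k, l, hc'⟩ := hform c c.2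
      refine Subtype.ext ?_
      show (b : Y) * c = c * b
      rw [← hb, ← hc']
      exact Commute.eq (((Commute.pow_pow (Commute.refl z) i k).mul_right
        (((show Commute z y from (hzc y).symm)).pow_pow i l)).mul_left
        ((((show Commute y z from hzc y)).pow_pow j k).mul_right
        (Commute.pow_pow (Commute.refl y) j l)))
    letI : CommGroup E := { (inferInstance : Group E) with mul_comm := hEc }
    have hEq : ∀ e ∈ E, e ^ q = 1 := fun e he => by
      obtain ⟨i, j, rfl⟩ := hform e he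
      rw [((show Commute z y from (hzc y).symm).pow_pow i j).mul_pow, ← pow_mul, ← pow_mul,
        mul_comm i, mul_comm j, pow_mul, pow_mul, hzq, hyq, one_pow, one_pow, one_mul]
    have hncyc : ¬ IsCyclic E := fun hcy => by
      obtain ⟨g, hg⟩ := hcy.exists_zpow_surjective
      obtain ⟨k, hk⟩ := hg ⟨z, mem_sup_left (mem_zpowers z)⟩
      obtain ⟨l, hl⟩ := hg ⟨y, mem_sup_right (mem_zpowers y)⟩
      have hk' : (g : Y) ^ k = z := congrArg Subtype.val hk
      have hl' : (g : Y) ^ l = y := congrArg Subtype.val hl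
      obtain ⟨i, hi : (g : Y) ^ i = z⟩ :=
        (isOfFinOrder_of_finite (g : Y)).mem_powers_iff_mem_zpowers.mpr ⟨k, hk'⟩
      obtain ⟨w, hw⟩ := exists_pow_eq_of_prime (Fact.out : q.Prime) (hEq _ g.2) (i := i)
        (by rw [hi]; exact hz1)
      rw [hi] at hw
      apply hnc
      rw [← hl', ← hw]
      exact ((show Commute a z from hzc a).pow_right w |>.zpow_right l).eq.symm
    have hcov : fixedBy (φ z) = ⊤ := by
      refine eq_top_of_forall_fixedBy (φ.comp E.subtype) hncyc ?_ _ fun e he => ?_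
      · obtain ⟨k, hk⟩ := IsPGroup.iff_card.mp hV
        rw [hk]
        exact Nat.Coprime.pow_right k
          ((Nat.coprime_two_right).mpr (hodd.of_dvd_nat E.card_subgroup_dvd_card))
      · intro x hx
        have hx' : φ (e : Y) x = x := hx
        obtain ⟨i, j, hij⟩ := hform e e.2
        rw [← hij] at hx'
        by_cases hj : y ^ j = 1
        · rw [hj, mul_one] at hx'
          obtain ⟨k, hk⟩ := exists_pow_eq_of_prime (Fact.out : q.Prime) hzq (i := i)
            (fun h => he (Subtype.ext (by rw [← hij, h, hj, one_mul]; rfl)))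
          have := fixed_pow hx' k
          rwa [hk] at this
        · obtain ⟨k, hk⟩ := exists_pow_eq_of_prime (Fact.out : q.Prime) hyq hj
          have h1 := fixed_pow hx' k
          rw [((show Commute z y from (hzc y).symm).pow_pow i j).mul_pow, hk, ← pow_mul] at h1
          set m := i * k
          have h2 : φ y (φ (a ^ m)⁻¹ x) = φ (a ^ m)⁻¹ x := by
            rw [← MulAut.mul_apply, ← map_mul]
            have : y * (a ^ m)⁻¹ = (a ^ m)⁻¹ * (z ^ m * y) := by
              rw [mul_inv_eq_iff_eq_mul, mul_assoc, eq_inv_mul_iff_mul_eq, hconj]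
            rw [this, map_mul, MulAut.mul_apply, h1]
          have h3' : φ a (φ (a ^ m)⁻¹ x) = φ (a ^ m)⁻¹ x := fix_image φ hs3 hfp hc u h2
          have h4 : φ z (φ (a ^ m)⁻¹ x) = φ (a ^ m)⁻¹ x := by
            simp only [hz, map_mul, MulAut.mul_apply]
            rw [fixed_inv h2, fixed_inv h3', h2, h3']
          show φ z x = x
          have h5 : φ (a ^ m)⁻¹ (φ z x) = φ (a ^ m)⁻¹ x := by
            rw [← MulAut.mul_apply, ← map_mul, hzc, map_mul, MulAut.mul_apply, h4]
          exact (φ (a ^ m)⁻¹).injective h5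
    apply hz1
    refine hinj ((MulEquiv.ext fun x => ?_).trans (map_one φ).symm)
    exact (hcov.ge (mem_top x) : x ∈ fixedBy (φ z))

/-- `σ` centralises an odd order group faithful on a `2`-group with fixed-point-free `s`. -/
theorem centralise {Y : Type u} [Group Y] [Finite Y] {V : Type v} [Group V] [Finite V]
    (φ : Y →* MulAut V) (σ : MulAut Y) (s : MulAut V) (hinj : Function.Injective φ)
    (hV : IsPGroup 2 V) (hodd : Odd (Nat.card Y)) (h3 : ¬ 3 ∣ Nat.card Y)
    (hσ : ∀ y, σ (σ (σ y)) = y) (hs3 : ∀ x, s (s (s x)) = x) (hfp : ∀ x, s x = x → x = 1)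
    (hc : ∀ y x, φ (σ y) (s x) = s (φ y x)) (y : Y) : σ y = y :=
  centralise_aux _ Y rfl φ σ s hinj hV hodd h3 hσ hs3 hfp hc y

end Cfsg.Agent.Lib.S3040Fpf54
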