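import Mathlib
import Cfsg.Prelude.Def_CaseTheorems
import Cfsg.Prelude.Def_TwoFusion
import Cfsg.Agent.Lib.PSolvable.Core
import Cfsg.Agent.Lib.StrongClosedFusion.Abelian
import Cfsg.Agent.Lib.Coprime.Quotient
import Cfsg.Agent.Lib.ZStar.Final
import Cfsg.Agent.Lib.Signalizer.Solvable
import Cfsg.Agent.Lib.S3040Fpf54.Basic
import Cfsg.Agent.S0205

/-!
# A strongly closed elementary abelian `2`-subgroup with a twist of order three

If `Z` is strongly closed, `3` does not divide the group order and an automorphism of order three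
of `Z` without fixed points commutes with `N(Z)`, then `X = O(X) N(Z)`.
-/

set_option autoImplicit false
set_option linter.unusedSectionVars false

namespace Cfsg.Agent.Lib.S3040Fpf54

open Subgroup
open Cfsg.Agent.Lib
open scoped Pointwise

universe u

/-- Strong closure with respect to every `2`-subgroup containing `Z`. -/
def ClosedTwo {X : Type u} [Group X] (Z : Subgroup X) : Prop :=
  ∀ Q : Subgroup X, IsPGroup 2 Q → Z ≤ Q → ∀ a ∈ Z, ∀ g : X, g * a * g⁻¹ ∈ Q → g * a * g⁻¹ ∈ Z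

/-- The hypothesis on `Z`. -/
structure Twist (X : Type u) [Group X] (Z : Subgroup X) (s : X → X) : Prop where
  comm : ∀ a ∈ Z, ∀ b ∈ Z, a * b = b * a
  sq : ∀ a ∈ Z, a * a = 1
  closed : ClosedTwo Z
  mem : ∀ a ∈ Z, s a ∈ Z
  mul : ∀ a ∈ Z, ∀ b ∈ Z, s (a * b) = s a * s b
  cube : ∀ a ∈ Z, s (s (s a)) = a
  fpf : ∀ a ∈ Z, s a = a → a = 1
  compat : ∀ n ∈ normalizer (Z : Set X), ∀ a ∈ Z, s (n * a * n⁻¹) = n * s a * n⁻¹
  three : ¬ 3 ∣ Nat.card X

/-- The odd core of a subgroup, inside the group. -/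
abbrev core {X : Type u} [Group X] (H : Subgroup X) : Subgroup X := (oddCore H).map H.subtype

theorem odd_core {X : Type u} [Group X] [Finite X] (H : Subgroup X) :
    Odd (Nat.card (core H)) := by
  rw [card_map_of_injective H.subtype_injective]
  exact Nat.coprime_two_right.mp PSolvable.pPrimeCore_coprime

theorem conj_mem_core {X : Type u} [Group X] [Finite X] {H H' : Subgroup X} {g : X}
    (hH : H.map (MulAut.conj g).toMonoidHom = H') {x : X} (hx : x ∈ core H) :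
    g * x * g⁻¹ ∈ core H' := by
  subst hH
  obtain ⟨y, hy, rfl⟩ := hx
  exact ⟨(MulAut.conj g).subgroupMap H y, (PSolvable.map_pPrimeCore_equiv (p := 2)
    ((MulAut.conj g).subgroupMap H)).le (mem_map_of_mem _ hy), rfl⟩

theorem map_conj_centralizer {X : Type u} [Group X] (g a : X) :
    (centralizer ({a} : Set X)).map (MulAut.conj g).toMonoidHom =
      centralizer ({g * a * g⁻¹} : Set X) := by
  ext x
  rw [mem_map_equiv, mem_centralizer_singleton_iff, mem_centralizer_singleton_iff,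
    MulAut.conj_symm_apply]
  constructor <;> intro h
  · calc x * (g * a * g⁻¹) = g * (g⁻¹ * x * g * a) * g⁻¹ := by group
      _ = g * a * g⁻¹ * x := by rw [h]; group
  · calc g⁻¹ * x * g * a = g⁻¹ * (x * (g * a * g⁻¹)) * g := by group
      _ = a * (g⁻¹ * x * g) := by rw [h]; group

theorem normal_odd_le_core {X : Type u} [Group X] [Finite X] {H U : Subgroup X} (hle : U ≤ H)
    (hn : ∀ h ∈ H, ∀ x ∈ U, h * x * h⁻¹ ∈ U) (hodd : Odd (Nat.card U)) : U ≤ core H := by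
  intro x hx
  haveI : (U.subgroupOf H).Normal := ⟨fun y hy h => hn h h.2 y hy⟩
  refine ⟨⟨x, hle hx⟩, PSolvable.le_pPrimeCore (p := 2) ?_ (show (⟨x, hle hx⟩ : H) ∈
    U.subgroupOf H from hx), rfl⟩
  rw [Nat.card_congr (subgroupOfEquivOfLe hle).toEquiv]
  exact Nat.coprime_two_right.mpr hodd

theorem eq_one_of_odd {X : Type u} [Group X] [Finite X] {U : Subgroup X}
    (hodd : Odd (Nat.card U)) {x : X} (hx : x ∈ U) (h2 : x * x = 1) : x = 1 := by
  have h1 : orderOf x ∣ Nat.card U :=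
    (orderOf_mk x hx) ▸ orderOf_dvd_natCard (⟨x, hx⟩ : U)
  have h3 : orderOf x ∣ 2 := orderOf_dvd_of_pow_eq_one (by rw [sq, h2])
  exact orderOf_eq_one_iff.mp (Nat.eq_one_of_dvd_coprimes (Nat.coprime_two_right.mpr hodd) h1 h3)

theorem isPGroup_of_sq {X : Type u} [Group X] {Z : Subgroup X} (h : ∀ a ∈ Z, a * a = 1) :
    IsPGroup 2 Z := fun a => ⟨1, Subtype.ext (by simp [sq, h a a.2])⟩

namespace Twist

variable {X : Type u} [Group X] [Finite X] {Z : Subgroup X} {s : X → X} (hZ : Twist X Z s)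
include hZ

theorem isPGroup : IsPGroup 2 Z := isPGroup_of_sq hZ.sq

theorem exists_sylow : ∃ S : Sylow 2 X, Z ≤ (S : Subgroup X) := hZ.isPGroup.exists_le_sylow

theorem map_one : s 1 = 1 := by
  have h := hZ.mul 1 Z.one_mem 1 Z.one_mem
  rw [one_mul] at h
  exact (left_eq_mul.mp h)

theorem conj_pair {T : Subgroup X} (hT : IsPGroup 2 T) : ∃ k : X, ∀ a ∈ Z, ∀ g : X,
    g * a * g⁻¹ ∈ T → k * (g * a * g⁻¹) * k⁻¹ ∈ Z := by
  haveI : Fact (Nat.Prime 2) := ⟨Nat.prime_two⟩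
  obtain ⟨S, hS⟩ := hZ.exists_sylow
  obtain ⟨R, hR⟩ := hT.exists_le_sylow
  obtain ⟨k, hk⟩ := MulAction.exists_smul_eq X R S
  refine ⟨k, fun a ha g hg => ?_⟩
  have h1 : k * (g * a * g⁻¹) * k⁻¹ ∈ (S : Subgroup X) := by
    rw [← hk]
    exact ⟨_, hR hg, rfl⟩
  have h2 : k * (g * a * g⁻¹) * k⁻¹ = (k * g) * a * (k * g)⁻¹ := by group
  rw [h2] at h1 ⊢
  exact hZ.closed S S.2 hS a ha _ h1

theorem fusion {a : X} (ha : a ∈ Z) {g : X} (hg : g * a * g⁻¹ ∈ Z) :
    ∃ n ∈ normalizer (Z : Set X), n * a * n⁻¹ = g * a * g⁻¹ := by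
  haveI : Fact (Nat.Prime 2) := ⟨Nat.prime_two⟩
  obtain ⟨S, hS⟩ := hZ.exists_sylow
  obtain ⟨n, hn, he⟩ := StrongClosedFusion.exists_mem_normalizer_conj_eq S
    (A := Z) ⟨⟨fun b c => Subtype.ext (hZ.comm b b.2 c c.2)⟩⟩
    ⟨hS, fun x hx k hk => hZ.closed S S.2 hS x hx k hk⟩
    (X := zpowers a) (zpowers_le.mpr (hS ha)) (g := g) (fun x hx => by
      obtain ⟨i, rfl⟩ := mem_zpowers_iff.mp hx
      rw [← conj_zpow]
      exact zpow_mem (hS hg) i)
  exact ⟨n, hn, (he a (mem_zpowers a)).symm⟩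

/-- `a` and `s a` are not conjugate. -/
theorem not_conj {a : X} (ha : a ∈ Z) {g : X} (hg : g * a * g⁻¹ = s a) : a = 1 := by
  obtain ⟨n, hn, he⟩ := hZ.fusion ha (g := g) (hg ▸ hZ.mem a ha)
  rw [hg] at he
  have h2 : n * s a * n⁻¹ = s (s a) := by rw [← hZ.compat n hn a ha, he]
  have h3 : n * s (s a) * n⁻¹ = a := by
    rw [← hZ.compat n hn _ (hZ.mem a ha), h2, hZ.cube a ha]
  have h4 : Commute a (n ^ 3) := by
    have : n ^ 3 * a * (n ^ 3)⁻¹ = a := by
      calc n ^ 3 * a * (n ^ 3)⁻¹ = n * (n * (n * a * n⁻¹) * n⁻¹) * n⁻¹ := by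
            simp only [pow_three, mul_inv_rev, mul_assoc]
        _ = a := by rw [he, h2, h3]
    exact (mul_inv_eq_iff_eq_mul.mp this).symm
  obtain ⟨m, hm⟩ := exists_pow_eq_self_of_coprime (x := n) (n := 3)
    (Nat.prime_three.coprime_iff_not_dvd.mpr fun h => hZ.three (h.trans (orderOf_dvd_natCard n)))
  have h5 : Commute a n := hm ▸ h4.pow_right m
  refine hZ.fpf a ha ?_
  rw [← he, ← h5.eq, mul_inv_cancel_right]

theorem central_of_fixed (hO : oddCore X = ⊥) {a : X} (ha : a ∈ Z)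
    (hfix : ∀ n ∈ normalizer (Z : Set X), n * a * n⁻¹ = a) : a ∈ center X := by
  rcases eq_or_ne a 1 with rfl | ha1
  · exact one_mem _
  have hiso : Cfsg.IsIsolatedInvolution a := by
    refine ⟨orderOf_eq_prime (p := 2) (by rw [pow_two, hZ.sq a ha]) ha1, fun g hcg => ?_⟩
    have hb : (g * a * g⁻¹) ^ 2 = 1 := by
      rw [conj_pow, pow_two, hZ.sq a ha, mul_one, mul_inv_cancel]
    have hT := Coprime.isPGroup_closure_pair (p := 2) hcg (by rw [pow_two, hZ.sq a ha]) hb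
    obtain ⟨k, hk⟩ := hZ.conj_pair hT
    have h1 : k * a * k⁻¹ ∈ Z := by
      simpa using hk a ha 1 (by simpa using subset_closure (Set.mem_insert a {g * a * g⁻¹}))
    have h2 := hk a ha g (subset_closure (Set.mem_insert_of_mem _ rfl))
    obtain ⟨n, hn, e1⟩ := hZ.fusion ha h1
    rw [hfix n hn] at e1
    have h2' : (k * g) * a * (k * g)⁻¹ ∈ Z := by
      simpa [mul_assoc] using h2
    obtain ⟨m, hm, e2⟩ := hZ.fusion ha h2'
    rw [hfix m hm] at e2
    calc g * a * g⁻¹ = k⁻¹ * ((k * g) * a * (k * g)⁻¹) * k := by group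
      _ = k⁻¹ * (k * a * k⁻¹) * k := by rw [← e2, ← e1]
      _ = a := by group
  refine mem_center_iff.mpr fun g => ?_
  have h := ZStar.zStar X a hiso g
  rw [hO, mem_bot] at h
  have h' := mul_inv_eq_one.mp h
  exact ((mul_inv_eq_iff_eq_mul).mp h').symm

theorem restrict (H : Subgroup X) (hle : Z ≤ H) [∀ x : X, Decidable (x ∈ H)] :
    Twist H (Z.subgroupOf H) fun x => if h : s x ∈ H then ⟨s x, h⟩ else 1 where
  comm a ha b hb := Subtype.ext (hZ.comm a ha b hb)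
  sq a ha := Subtype.ext (hZ.sq a ha)
  closed Q hQ hZQ a ha g hg := hZ.closed (Q.map H.subtype) (hQ.map _)
    (fun z hz => ⟨⟨z, hle hz⟩, hZQ (show (⟨z, hle hz⟩ : H) ∈ Z.subgroupOf H from hz), rfl⟩)
    a ha g ⟨_, hg, rfl⟩
  mem a ha := by
    simp only [dif_pos (hle (hZ.mem a ha))]
    exact hZ.mem a ha
  mul a ha b hb := by
    have h3 : s ((a : X) * b) ∈ H :=
      hle (hZ.mem _ (Z.mul_mem (show (a : X) ∈ Z from ha) (show (b : X) ∈ Z from hb)))
    simp only [Subgroup.coe_mul]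
    rw [dif_pos h3, dif_pos (hle (hZ.mem a ha)), dif_pos (hle (hZ.mem b hb))]
    exact Subtype.ext (hZ.mul a ha b hb)
  cube a ha := by
    simp only [dif_pos (hle (hZ.mem a ha)), dif_pos (hle (hZ.mem _ (hZ.mem a ha))),
      dif_pos (hle (hZ.mem _ (hZ.mem _ (hZ.mem a ha))))]
    exact Subtype.ext (hZ.cube a ha)
  fpf a ha h := by
    simp only [dif_pos (hle (hZ.mem a ha))] at h
    exact Subtype.ext (hZ.fpf a ha (congrArg Subtype.val h))
  compat n hn a ha := by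
    have hnX : (n : X) ∈ normalizer (Z : Set X) := mem_normalizer_fintype fun z hz =>
      (mem_normalizer_iff.mp hn ⟨z, hle hz⟩).mp hz
    have h1 : (n : X) * a * (n : X)⁻¹ ∈ Z := (mem_normalizer_iff.mp hnX a).mp ha
    refine Subtype.ext ?_
    simp only [Subgroup.coe_mul, InvMemClass.coe_inv, dif_pos (hle (hZ.mem a ha)),
      dif_pos (hle (hZ.mem _ h1))]
    exact hZ.compat n hnX a ha
  three := not_three_dvd_subgroup hZ.three H

/-- Passing to a quotient by a normal subgroup meeting `Z` in an invariant subgroup. -/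
theorem quotient (N : Subgroup X) [N.Normal] (hs : ∀ a ∈ Z, a ∈ N → s a ∈ N)
    (hnorm : ∀ q ∈ normalizer ((Z.map (QuotientGroup.mk' N) : Subgroup (X ⧸ N)) : Set (X ⧸ N)),
      ∃ n ∈ normalizer (Z : Set X), (n : X ⧸ N) = q) :
    ∃ t : X ⧸ N → X ⧸ N, Twist (X ⧸ N) (Z.map (QuotientGroup.mk' N)) t := by
  classical
  haveI : Fact (Nat.Prime 2) := ⟨Nat.prime_two⟩
  let t : X ⧸ N → X ⧸ N := fun q =>
    if h : ∃ a ∈ Z, (a : X ⧸ N) = q then ((s h.choose : X) : X ⧸ N) else 1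
  have hinv : ∀ a ∈ Z, a⁻¹ = a := fun a ha => inv_eq_of_mul_eq_one_right (hZ.sq a ha)
  have ht : ∀ a ∈ Z, t (a : X ⧸ N) = (s a : X ⧸ N) := fun a ha => by
    have h : ∃ b ∈ Z, (b : X ⧸ N) = a := ⟨a, ha, rfl⟩
    simp only [t, dif_pos h]
    obtain ⟨hb, hba⟩ := h.choose_spec
    refine QuotientGroup.eq.mpr ?_
    rw [hinv _ (hZ.mem _ hb), ← hZ.mul _ hb _ ha]
    refine hs _ (Z.mul_mem hb ha) ?_
    have := QuotientGroup.eq.mp hba
    rwa [hinv _ hb] at this
  refine ⟨t, ?_⟩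
  constructor
  · rintro _ ⟨a, ha, rfl⟩ _ ⟨b, hb, rfl⟩
    rw [← _root_.map_mul, ← _root_.map_mul, hZ.comm a ha b hb]
  · rintro _ ⟨a, ha, rfl⟩
    rw [← _root_.map_mul, hZ.sq a ha, _root_.map_one]
  · rintro Q hQ hZQ _ ⟨a, ha, rfl⟩ g hg
    obtain ⟨g, rfl⟩ := QuotientGroup.mk'_surjective N g
    set P := Q.comap (QuotientGroup.mk' N) with hP
    have hZP : Z ≤ P := fun z hz => hZQ ⟨z, hz, rfl⟩
    obtain ⟨T, hT⟩ := (hZ.isPGroup.comap_subtype (K := P)).exists_le_sylow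
    let f : P →* Q := (QuotientGroup.mk' N).subgroupComap Q
    have hf : Function.Surjective f := fun ⟨q, hq⟩ => by
      obtain ⟨x, rfl⟩ := QuotientGroup.mk'_surjective N q
      exact ⟨⟨x, hq⟩, rfl⟩
    have hTtop : (T : Subgroup P).map f = ⊤ := by
      have hTQ := T.mapSurjective hf
      have h1 : ¬ 2 ∣ ((T.mapSurjective hf : Sylow 2 Q) : Subgroup Q).index :=
        Sylow.not_dvd_index _
      obtain ⟨k, hk⟩ := IsPGroup.iff_card.mp hQ
      have h2 : ((T.mapSurjective hf : Sylow 2 Q) : Subgroup Q).index ∣ 2 ^ k :=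
        hk ▸ index_dvd_card _
      obtain ⟨j, -, hj⟩ := (Nat.dvd_prime_pow Nat.prime_two).mp h2
      rcases j with _ | j
      · exact index_eq_one.mp hj
      · exact absurd (hj ▸ dvd_pow_self 2 j.succ_ne_zero) h1
    have hy : g * a * g⁻¹ ∈ P := by simpa [hP] using hg
    have hy2 : IsPGroup 2 (zpowers (⟨_, hy⟩ : P)) :=
      IsPGroup.of_card (n := if g * a * g⁻¹ = 1 then 0 else 1) (by
        rw [Nat.card_zpowers, ← orderOf_coe]
        split
        · rename_i h; simp [h]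
        · rename_i h
          simpa using orderOf_eq_prime (p := 2)
            (by rw [conj_pow, pow_two, hZ.sq a ha, mul_one, mul_inv_cancel]) h)
    obtain ⟨R, hR⟩ := hy2.exists_le_sylow
    obtain ⟨p, hp⟩ := MulAction.exists_smul_eq P R T
    obtain ⟨r, hr, hfr⟩ := hTtop.ge (mem_top (f p))
    have hmem : (r⁻¹ * p) * (⟨_, hy⟩ : P) * (r⁻¹ * p)⁻¹ ∈ (T : Subgroup P) := by
      rw [show (r⁻¹ * p) * (⟨_, hy⟩ : P) * (r⁻¹ * p)⁻¹ = r⁻¹ * (p * ⟨_, hy⟩ * p⁻¹) * r by group]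
      refine mul_mem (mul_mem (inv_mem hr) ?_) hr
      rw [← hp]
      exact ⟨_, hR (mem_zpowers _), rfl⟩
    set w : X := ((r⁻¹ * p : P) : X) with hw
    have hwN : (w : X ⧸ N) = 1 := congrArg Subtype.val
      (show f (r⁻¹ * p) = 1 by rw [_root_.map_mul, _root_.map_inv, hfr, inv_mul_cancel])
    have hmem' : (w * g) * a * (w * g)⁻¹ ∈ (T : Subgroup P).map P.subtype :=
      ⟨_, hmem, by simp [hw, mul_assoc]⟩
    have hfin := hZ.closed _ (T.2.map P.subtype)
      (fun z hz => ⟨⟨z, hZP hz⟩, hT (show (⟨z, hZP hz⟩ : P) ∈ Z.subgroupOf P from hz), rfl⟩)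
      a ha _ hmem'
    exact ⟨_, hfin, by
      simp only [_root_.map_mul, _root_.map_inv, QuotientGroup.mk'_apply] at *
      rw [hwN, one_mul]⟩
  · rintro _ ⟨a, ha, rfl⟩
    exact ⟨s a, hZ.mem a ha, (ht a ha).symm⟩
  · rintro _ ⟨a, ha, rfl⟩ _ ⟨b, hb, rfl⟩
    simp only [QuotientGroup.mk'_apply, ← QuotientGroup.mk_mul]
    rw [ht _ (Z.mul_mem ha hb), ht a ha, ht b hb, hZ.mul a ha b hb, QuotientGroup.mk_mul]
  · rintro _ ⟨a, ha, rfl⟩
    rw [QuotientGroup.mk'_apply, ht a ha, ht _ (hZ.mem a ha), ht _ (hZ.mem _ (hZ.mem a ha)),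
      hZ.cube a ha]
  · rintro _ ⟨a, ha, rfl⟩ h
    rw [QuotientGroup.mk'_apply, ht a ha] at h
    rw [QuotientGroup.mk'_apply, QuotientGroup.eq_one_iff]
    have h1 : a * s a ∈ N := by
      have := QuotientGroup.eq.mp h.symm
      rwa [hinv a ha] at this
    have h2 := hs _ (Z.mul_mem ha (hZ.mem a ha)) h1
    rw [hZ.mul a ha _ (hZ.mem a ha)] at h2
    -- `a · s a · s² a` is fixed by `s`
    set m := a * s a * s (s a) with hm
    have hmZ : m ∈ Z := Z.mul_mem (Z.mul_mem ha (hZ.mem a ha)) (hZ.mem _ (hZ.mem a ha))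
    have hm1 : m = 1 := by
      refine hZ.fpf m hmZ ?_
      rw [hm, hZ.mul _ (Z.mul_mem ha (hZ.mem a ha)) _ (hZ.mem _ (hZ.mem a ha)),
        hZ.mul a ha _ (hZ.mem a ha), hZ.cube a ha,
        hZ.comm _ (Z.mul_mem (hZ.mem a ha) (hZ.mem _ (hZ.mem a ha))) a ha, mul_assoc]
    have h3 : a = s a * s (s a) := by
      rw [hm, mul_assoc, mul_eq_one_iff_eq_inv, hinv _ (Z.mul_mem (hZ.mem a ha)
        (hZ.mem _ (hZ.mem a ha)))] at hm1
      exact hm1
    exact h3 ▸ h2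
  · rintro q hq _ ⟨a, ha, rfl⟩
    obtain ⟨n, hn, rfl⟩ := hnorm q hq
    have h1 : n * a * n⁻¹ ∈ Z := (mem_normalizer_iff.mp hn a).mp ha
    simp only [QuotientGroup.mk'_apply, ← QuotientGroup.mk_mul, ← QuotientGroup.mk_inv]
    rw [ht _ h1, hZ.compat n hn a ha, ht a ha]
    simp
  · exact fun h => hZ.three (h.trans N.card_quotient_dvd_card)

end Twist

end Cfsg.Agent.Lib.S3040Fpf54
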