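import Mathlib
import Cfsg.Agent.Lib.S3040Fpf54.Strong

/-!
# `X = O(X) N(Z)` for a strongly closed `Z` with a twist
-/

set_option autoImplicit false
set_option linter.unusedSectionVars false

namespace Cfsg.Agent.Lib.S3040Fpf54

open Subgroup
open Cfsg.Agent.Lib
open scoped Pointwise

universe u

/-- `X = O(X) N(Z)`. -/
def Cover (X : Type u) [Group X] (Z : Subgroup X) : Prop :=
  ∀ x : X, ∃ o ∈ oddCore X, ∃ n ∈ normalizer (Z : Set X), x = o * n

namespace Twist

variable {X : Type u} [Group X] [Finite X] {Z : Subgroup X} {s : X → X} (hZ : Twist X Z s)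
include hZ

theorem exists_normalizer_mk (q : X ⧸ oddCore X)
    (hq : q ∈ normalizer ((Z.map (QuotientGroup.mk' (oddCore X)) : Subgroup (X ⧸ oddCore X)) :
      Set (X ⧸ oddCore X))) :
    ∃ n ∈ normalizer (Z : Set X), (n : X ⧸ oddCore X) = q := by
  haveI : Fact (Nat.Prime 2) := ⟨Nat.prime_two⟩
  obtain ⟨x, rfl⟩ := QuotientGroup.mk_surjective q
  set P := oddCore X ⊔ Z with hP
  have hidx : ¬ 2 ∣ (Z.subgroupOf P).index := by
    have h1 : Z.relIndex P ∣ Nat.card (oddCore X) := by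
      rw [hP]
      have h : (oddCore X).relIndex (oddCore X ⊔ Z) = (oddCore X).relIndex Z := relIndex_sup_left ..
      have e1 := PSolvable.card_mul_relIndex (G := X) (H := Z) (K := oddCore X ⊔ Z) le_sup_right
      have e2 := PSolvable.card_mul_relIndex (G := X) (H := oddCore X) (K := oddCore X ⊔ Z)
        le_sup_left
      rw [h] at e2
      have hd : (oddCore X).relIndex Z ∣ Nat.card Z := relIndex_dvd_card _ _
      obtain ⟨c, hc⟩ := hd
      refine ⟨c, mul_left_cancel₀ (Nat.card_pos (α := Z)).ne' ?_⟩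
      rw [← mul_assoc, e1, ← e2, mul_assoc, ← hc, mul_comm]
    intro h2
    exact (Nat.not_even_iff_odd.mpr (Nat.coprime_two_right.mp
      (PSolvable.pPrimeCore_coprime (G := X) (p := 2)))) (even_iff_two_dvd.mpr (h2.trans h1))
  let T : Sylow 2 P := (hZ.isPGroup.comap_subtype (K := P)).toSylow hidx
  have hle : Z ≤ P := le_sup_right
  have hxP : ∀ a ∈ Z, x * a * x⁻¹ ∈ P := fun a ha => by
    obtain ⟨b, hb, he⟩ := (mem_normalizer_iff.mp hq _).mp
      (mem_map_of_mem (QuotientGroup.mk' (oddCore X)) ha)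
    have h2 : b⁻¹ * (x * a * x⁻¹) ∈ oddCore X := QuotientGroup.eq.mp (by simpa using he)
    rw [show x * a * x⁻¹ = b * (b⁻¹ * (x * a * x⁻¹)) by group]
    exact mul_mem (hle hb) (mem_sup_left h2)
  have hU : IsPGroup 2 ((Z.map (MulAut.conj x).toMonoidHom).subgroupOf P) :=
    (hZ.isPGroup.map _).comap_subtype
  obtain ⟨R, hR⟩ := hU.exists_le_sylow
  obtain ⟨p, hp⟩ := MulAction.exists_smul_eq P R T
  obtain ⟨o, ho, z, hz, hoz⟩ := mem_sup_of_normal_left.mp p.2
  refine ⟨z⁻¹ * ((p : X) * x), mem_normalizer_fintype fun a ha => ?_, ?_⟩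
  · have h1 : (⟨x * a * x⁻¹, hxP a ha⟩ : P) ∈ R := hR ⟨a, ha, rfl⟩
    have h2 : (p : X) * (x * a * x⁻¹) * (p : X)⁻¹ ∈ Z := by
      have : p * ⟨x * a * x⁻¹, hxP a ha⟩ * p⁻¹ ∈ (T : Subgroup P) := by
        rw [← hp]
        exact ⟨_, h1, rfl⟩
      exact this
    have := mul_mem (mul_mem (inv_mem hz) h2) hz
    simpa [mul_assoc] using this
  · refine QuotientGroup.eq.mpr ?_
    rw [← hoz, show (z⁻¹ * (o * z * x))⁻¹ * x = x⁻¹ * (z⁻¹ * o⁻¹ * z) * x by group]
    exact (inferInstance : (oddCore X).Normal).conj_mem' _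
      ((inferInstance : (oddCore X).Normal).conj_mem' _ (inv_mem ho) z) x

theorem isSignalizerFunctor
    (hcov : ∀ H : Subgroup X, Z ≤ H → H ≠ ⊤ →
      ∀ x ∈ H, ∃ o ∈ core H, ∃ n ∈ normalizer (Z : Set X), x = o * n ∧ n ∈ H)
    (hproper : ∀ a ∈ Z, a ≠ 1 → centralizer ({a} : Set X) ≠ ⊤) :
    IsSolvableSignalizerFunctor 2 Z fun a => core (centralizer ({a} : Set X)) := by
  have hZC : ∀ a ∈ Z, Z ≤ centralizer ({a} : Set X) := fun a ha b hb =>
    mem_centralizer_singleton_iff.mpr (hZ.comm b hb a ha)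
  have hconj : ∀ a : X, ∀ h ∈ centralizer ({a} : Set X), ∀ x ∈ core (centralizer ({a} : Set X)),
      h * x * h⁻¹ ∈ core (centralizer ({a} : Set X)) := fun a h hh x hx => by
    refine conj_mem_core ?_ hx
    rw [map_conj_centralizer, mem_centralizer_singleton_iff.mp hh, mul_inv_cancel_right]
  refine ⟨⟨fun a _ _ => map_subtype_le _, fun a _ _ h =>
    Nat.not_even_iff_odd.mpr (odd_core _) (even_iff_two_dvd.mpr h),
    fun a ha _ b hb x hx => hconj a b (hZC a ha hb) x hx, fun a ha _ b hb hb1 y hy => ?_⟩,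
    fun a _ _ => Cfsg.Agent.S0205.result (odd_core _)⟩
  -- balance
  set Y := core (centralizer ({a} : Set X)) ⊓ centralizer ({b} : Set X) with hYdef
  set Cb := centralizer ({b} : Set X) with hCb
  have hYodd : Odd (Nat.card Y) := (odd_core _).of_dvd_nat (card_dvd_of_le inf_le_left)
  have hYinv : ∀ z ∈ Z, ∀ w ∈ Y, z * w * z⁻¹ ∈ Y := fun z hz w hw =>
    ⟨hconj a z (hZC a ha hz) w hw.1, Subgroup.mul_mem _ (Subgroup.mul_mem _ (hZC b hb hz) hw.2)
      (Subgroup.inv_mem _ (hZC b hb hz))⟩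
  let O := oddCore Cb
  -- the commutators lie in the core of `C(b)`
  have hcomm : ∀ w ∈ Y, ∀ z ∈ Z, w * z * w⁻¹ * z⁻¹ ∈ core Cb := fun w hw z hz => by
    obtain ⟨o, ⟨o', ho', rfl⟩, n, hn, hwn, hnC⟩ := hcov Cb (hZC b hb) (hproper b hb hb1) w hw.2
    let q := QuotientGroup.mk' O
    let n' : Cb := ⟨n, hnC⟩
    let z' : Cb := ⟨z, hZC b hb hz⟩
    let w' : Cb := ⟨w, hw.2⟩
    have hqw : q w' = q n' := by
      have : w' = o' * n' := Subtype.ext hwn
      rw [this, _root_.map_mul, show q o' = 1 from (QuotientGroup.eq_one_iff o').mpr ho', one_mul]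
    have hc : w' * z' * w'⁻¹ * z'⁻¹ ∈ Y.subgroupOf Cb := by
      show w * z * w⁻¹ * z⁻¹ ∈ Y
      rw [show w * z * w⁻¹ * z⁻¹ = w * (z * w⁻¹ * z⁻¹) by group]
      exact mul_mem hw (hYinv z hz _ (inv_mem hw))
    have hz2 : n * z * n⁻¹ * z⁻¹ ∈ Z :=
      mul_mem ((mem_normalizer_iff.mp hn z).mp hz) (inv_mem hz)
    set c := w' * z' * w'⁻¹ * z'⁻¹ with hcdef
    have hq2 : q c * q c = 1 := by
      have e : q c = q (n' * z' * n'⁻¹ * z'⁻¹) := by
        simp only [hcdef, _root_.map_mul, _root_.map_inv, hqw]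
      rw [e, ← _root_.map_mul, show (n' * z' * n'⁻¹ * z'⁻¹) * (n' * z' * n'⁻¹ * z'⁻¹) = 1 from
        Subtype.ext (hZ.sq _ hz2), _root_.map_one]
    have hodd : Odd (Nat.card ((Y.subgroupOf Cb).map q)) := by
      refine hYodd.of_dvd_nat ?_
      have h1 : Nat.card (Y.subgroupOf Cb) = Nat.card Y :=
        Nat.card_congr (subgroupOfEquivOfLe (inf_le_right : Y ≤ Cb)).toEquiv
      exact h1 ▸ card_map_dvd _ q
    have := eq_one_of_odd hodd (mem_map_of_mem q hc) hq2
    exact ⟨c, (QuotientGroup.eq_one_iff c).mp this, rfl⟩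
  -- the centraliser of `Z`
  have hCZ : core (centralizer (Z : Set X)) ≤ core Cb := by
    have hle : centralizer (Z : Set X) ≤ Cb :=
      centralizer_le (Set.singleton_subset_iff.mpr hb)
    have hUle : core (centralizer (Z : Set X)) ≤ Cb := (map_subtype_le _).trans hle
    let q := QuotientGroup.mk' O
    let U := ((core (centralizer (Z : Set X))).subgroupOf Cb).map q
    haveI : U.Normal := ⟨fun _ ⟨u, hu, hue⟩ g => by
      obtain ⟨g, rfl⟩ := QuotientGroup.mk'_surjective O g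
      obtain ⟨o, ⟨o', ho', rfl⟩, n, hn, hgn, hnC⟩ := hcov Cb (hZC b hb) (hproper b hb hb1) g g.2
      let n' : Cb := ⟨n, hnC⟩
      have hg : q g = q n' := by
        rw [show g = o' * n' from Subtype.ext hgn, _root_.map_mul,
          show q o' = 1 from (QuotientGroup.eq_one_iff o').mpr ho', one_mul]
      refine ⟨n' * u * n'⁻¹, ?_, ?_⟩
      · show n * (u : X) * n⁻¹ ∈ core (centralizer (Z : Set X))
        refine conj_mem_core ?_ hu
        ext c
        rw [mem_map_equiv, mem_centralizer_iff, mem_centralizer_iff, MulAut.conj_symm_apply]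
        constructor <;> intro h z hz
        · have hz' : n⁻¹ * z * n ∈ Z := by
            simpa using (mem_normalizer_iff.mp (inv_mem hn) z).mp hz
          calc z * c = n * ((n⁻¹ * z * n) * (n⁻¹ * c * n)) * n⁻¹ := by group
            _ = c * z := by rw [h _ hz']; group
        · have hz' : n * z * n⁻¹ ∈ Z := (mem_normalizer_iff.mp hn z).mp hz
          calc z * (n⁻¹ * c * n) = n⁻¹ * ((n * z * n⁻¹) * c) * n := by group
            _ = n⁻¹ * c * n * z := by rw [h _ hz']; group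
      · rw [← hue]
        show q (n' * u * n'⁻¹) = q g * q u * (q g)⁻¹
        rw [hg, _root_.map_mul, _root_.map_mul, _root_.map_inv]⟩
    have hU : U ≤ pPrimeCore 2 (Cb ⧸ O) := PSolvable.le_pPrimeCore (by
      refine Nat.coprime_two_right.mpr ((odd_core (centralizer (Z : Set X))).of_dvd_nat ?_)
      have h1 := card_map_dvd ((core (centralizer (Z : Set X))).subgroupOf Cb) q
      rwa [Nat.card_congr (subgroupOfEquivOfLe hUle).toEquiv] at h1)
    intro u hu
    have h1 := hU (mem_map_of_mem q (show (⟨u, hUle hu⟩ : Cb) ∈ _ from hu :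
      (⟨u, hUle hu⟩ : Cb) ∈ (core (centralizer (Z : Set X))).subgroupOf Cb))
    rw [show pPrimeCore 2 (Cb ⧸ O) = ⊥ from PSolvable.pPrimeCore_quotient_eq_bot, mem_bot] at h1
    exact ⟨_, (QuotientGroup.eq_one_iff _).mp h1, rfl⟩
  have hnY : Z ≤ normalizer (Y : Set X) := fun z hz =>
    mem_normalizer_fintype fun w hw => hYinv z hz w hw
  have hYZ : ⁅Y, Z⁆ ≤ core Cb := commutator_le.mpr fun w hw z hz => by
    rw [commutatorElement_def]; exact hcomm w hw z hz
  have hcop : (Nat.card Z).Coprime (Nat.card (⁅Y, Z⁆ : Subgroup X)) := by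
    obtain ⟨k, hk⟩ := IsPGroup.iff_card.mp hZ.isPGroup
    rw [hk]
    exact Nat.Coprime.pow_left k (Nat.coprime_two_left.mpr
      ((odd_core _).of_dvd_nat (card_dvd_of_le hYZ)))
  haveI : Fact (Nat.Prime 2) := ⟨Nat.prime_two⟩
  obtain ⟨d, hd, c, hc, rfl⟩ := Coprime.mem_commutator_mul_centralizer hnY hcop
    (Or.inl (haveI := hZ.isPGroup.isNilpotent; inferInstance)) (k := y) hy
  refine mul_mem (hYZ hd) (hCZ ?_)
  have hle : centralizer (Z : Set X) ≤ centralizer ({a} : Set X) :=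
    centralizer_le (Set.singleton_subset_iff.mpr ha)
  exact normal_odd_le_core (U := core (centralizer ({a} : Set X)) ⊓ centralizer (Z : Set X))
    inf_le_right (fun h hh x hx => ⟨hconj a h (hle hh) x hx.1,
      Subgroup.mul_mem _ (Subgroup.mul_mem _ hh hx.2) (Subgroup.inv_mem _ hh)⟩)
    ((odd_core _).of_dvd_nat (card_dvd_of_le inf_le_left)) ⟨hc.1.1, hc.2⟩

theorem normal_of_small (hO : oddCore X = ⊥) (hc : ∀ a ∈ Z, a ∈ center X → a = 1) {a : X}
    (ha : a ∈ Z) (hsmall : Nat.card Z < 8) : a = 1 := by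
  classical
  haveI : Fact (Nat.Prime 2) := ⟨Nat.prime_two⟩
  by_contra ha1
  have hb := hZ.mem a ha
  have hd := hZ.mem _ hb
  let F : Finset X := {1, a, s a, s (s a)}
  have h1 : s a ≠ a := fun h => ha1 (hZ.fpf a ha h)
  have h2 : s (s a) ≠ s a := fun h => h1 (hZ.fpf _ hb h ▸ by
    have := hZ.cube a ha; rw [hZ.fpf _ hb h, hZ.map_one, hZ.map_one] at this; exact this)
  have h3 : s (s a) ≠ a := fun h => by
    have := hZ.cube a ha; rw [h] at this; exact h1 this
  have hne : ∀ b ∈ Z, b ≠ 1 → s b ≠ 1 := fun b hb hb1 h => hb1 (by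
    have := hZ.cube b hb; rw [h, hZ.map_one, hZ.map_one] at this; exact this.symm)
  have hcard : F.card = 4 := by
    have e1 := hne a ha ha1
    have e2 := hne _ hb e1
    simp [F, Ne.symm ha1, Ne.symm e1, Ne.symm e2, Ne.symm h1, Ne.symm h2, Ne.symm h3]
  obtain ⟨k, hk⟩ := IsPGroup.iff_card.mp hZ.isPGroup
  have hle : Nat.card Z ≤ 4 := by
    rw [hk] at hsmall ⊢
    have : k < 3 := (Nat.pow_lt_pow_iff_right (a := 2) (by norm_num)).mp hsmall
    exact (Nat.pow_le_pow_right (by norm_num) (show k ≤ 2 by omega)).trans (le_refl _)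
  letI := Fintype.ofFinite X
  have hFZ : F = (Z : Set X).toFinset := by
    refine Finset.eq_of_subset_of_card_le (fun b hb' => ?_) ?_
    · simp only [F, Finset.mem_insert, Finset.mem_singleton] at hb'
      rw [Set.mem_toFinset]
      rcases hb' with rfl | rfl | rfl | rfl
      · exact Z.one_mem
      · exact ha
      · exact hb
      · exact hd
    · rw [hcard, Set.toFinset_card, ← Nat.card_eq_fintype_card]
      exact hle
  refine ha1 (hc a ha (hZ.central_of_fixed hO ha fun n hn => ?_))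
  have hm : n * a * n⁻¹ ∈ F := by
    rw [hFZ, Set.mem_toFinset]
    exact (mem_normalizer_iff.mp hn a).mp ha
  simp only [F, Finset.mem_insert, Finset.mem_singleton] at hm
  rcases hm with h | h | h | h
  · exact absurd (conj_eq_one_iff.mp h) ha1
  · exact h
  · exact absurd (hZ.not_conj ha h) ha1
  · exfalso
    -- `s` moves `s (s a)` to `a`
    refine hne _ hb (hne a ha ha1) (hZ.not_conj hd (g := n⁻¹) ?_)
    rw [hZ.cube a ha, ← h]; group

theorem sylow_conj_mem {M : Subgroup X} (hZM : Z ≤ M) {a : X} (ha : a ∈ Z) {g : X}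
    (hg : g * a * g⁻¹ ∈ M) : ∃ m ∈ M, m * (g * a * g⁻¹) * m⁻¹ ∈ Z := by
  haveI : Fact (Nat.Prime 2) := ⟨Nat.prime_two⟩
  obtain ⟨T, hT⟩ := (hZ.isPGroup.comap_subtype (K := M)).exists_le_sylow
  have h2 : (⟨_, hg⟩ : M) ^ 2 = 1 := Subtype.ext (by
    rw [SubgroupClass.coe_pow, conj_pow, pow_two, hZ.sq a ha, mul_one, mul_inv_cancel]; rfl)
  have hy : IsPGroup 2 (zpowers (⟨_, hg⟩ : M)) := isPGroup_of_sq (fun y hy => by
    obtain ⟨i, rfl⟩ := mem_zpowers_iff.mp hy
    rw [← (Commute.refl _).mul_zpow, ← pow_two, h2, one_zpow])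
  obtain ⟨R, hR⟩ := hy.exists_le_sylow
  obtain ⟨m, hm⟩ := MulAction.exists_smul_eq M R T
  refine ⟨m, m.2, ?_⟩
  have h3 : m * ⟨_, hg⟩ * m⁻¹ ∈ (T : Subgroup M) := by
    rw [← hm]; exact ⟨_, hR (mem_zpowers _), rfl⟩
  have e : (m : X) * (g * a * g⁻¹) * (m : X)⁻¹ = ((m : X) * g) * a * ((m : X) * g)⁻¹ := by group
  rw [e]
  refine hZ.closed _ (T.2.map M.subtype)
    (fun z hz => ⟨⟨z, hZM hz⟩, hT (show (⟨z, hZM hz⟩ : M) ∈ Z.subgroupOf M from hz), rfl⟩)
    a ha _ ⟨_, h3, e⟩

end Twist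

theorem cover_aux : ∀ k : ℕ, ∀ (X : Type u) [Group X] [Finite X], Nat.card X = k →
    ∀ (Z : Subgroup X) (s : X → X), Twist X Z s → Cover X Z := by
  intro k
  induction k using Nat.strong_induction_on with
  | _ k ih =>
  intro X _ _ hk Z s hZ
  classical
  haveI : Fact (Nat.Prime 2) := ⟨Nat.prime_two⟩
  have hlt : ∀ N : Subgroup X, N.Normal → N ≠ ⊥ → Nat.card (X ⧸ N) < k := fun N _ hN => by
    have h1 := N.card_eq_card_quotient_mul_card_subgroup
    have h2 : 1 < Nat.card N := N.one_lt_card_iff_ne_bot.mpr hN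
    rw [← hk, h1]
    exact lt_mul_of_one_lt_right Nat.card_pos h2
  by_cases hO : oddCore X = ⊥
  swap
  · obtain ⟨t, ht⟩ := hZ.quotient (oddCore X) (fun a ha haO => by
      rw [eq_one_of_odd (Nat.coprime_two_right.mp PSolvable.pPrimeCore_coprime) haO (hZ.sq a ha),
        hZ.map_one]
      exact one_mem _) hZ.exists_normalizer_mk
    intro x
    obtain ⟨o, ho, n, hn, hxn⟩ := ih _ (hlt _ inferInstance hO) _ rfl _ t ht (x : X ⧸ oddCore X)
    rw [show oddCore (X ⧸ oddCore X) = ⊥ from PSolvable.pPrimeCore_quotient_eq_bot, mem_bot] at ho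
    rw [ho, one_mul] at hxn
    obtain ⟨m, hm, hmn⟩ := hZ.exists_normalizer_mk n hn
    refine ⟨x * m⁻¹, ?_, m, hm, by group⟩
    rw [← QuotientGroup.eq_one_iff, QuotientGroup.mk_mul, QuotientGroup.mk_inv, hmn, hxn,
      mul_inv_cancel]
  suffices hnorm : Z.Normal from fun x =>
    ⟨1, one_mem _, x, (normalizer_eq_top_iff.mpr hnorm).ge (mem_top x), (one_mul x).symm⟩
  -- central elements
  by_cases hc : ∀ a ∈ Z, a ∈ center X → a = 1
  swap
  · push Not at hc
    obtain ⟨a, ha, hac, ha1⟩ := hc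
    set N := Z ⊓ center X with hN
    haveI : N.Normal := ⟨fun x hx g => by
      rw [mem_center_iff.mp hx.2 g, mul_inv_cancel_right]; exact hx⟩
    have hnormN : ∀ q ∈ normalizer ((Z.map (QuotientGroup.mk' N) : Subgroup (X ⧸ N)) :
        Set (X ⧸ N)), ∃ n ∈ normalizer (Z : Set X), (n : X ⧸ N) = q := by
      intro q hq
      obtain ⟨x, rfl⟩ := QuotientGroup.mk_surjective q
      refine ⟨x, mem_normalizer_fintype fun b hb => ?_, rfl⟩
      obtain ⟨c, hc', he⟩ := (mem_normalizer_iff.mp hq _).mp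
        (mem_map_of_mem (QuotientGroup.mk' N) hb)
      have h2 : c⁻¹ * (x * b * x⁻¹) ∈ N := QuotientGroup.eq.mp (by simpa using he)
      rw [show x * b * x⁻¹ = c * (c⁻¹ * (x * b * x⁻¹)) by group]
      exact mul_mem hc' h2.1
    obtain ⟨t, ht⟩ := hZ.quotient N (fun b hb hbN => ⟨hZ.mem b hb,
      hZ.central_of_fixed hO (hZ.mem b hb) fun n hn => by
        rw [← hZ.compat n hn b hb, mem_center_iff.mp hbN.2 n, mul_inv_cancel_right]⟩) hnormN
    have hO' : oddCore (X ⧸ N) = ⊥ := by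
      set L := (oddCore (X ⧸ N)).comap (QuotientGroup.mk' N) with hL
      refine PSolvable.eq_bot_of_comap_mk'_le N ?_
      have hNL : N ≤ L := QuotientGroup.le_comap_mk' _ _
      have hcard : Nat.card L = Nat.card N * Nat.card (oddCore (X ⧸ N)) :=
        PSolvable.card_comap_mk' N _
      have hcop : (Nat.card (N.subgroupOf L)).Coprime (N.subgroupOf L).index := by
        obtain ⟨j, hj⟩ := IsPGroup.iff_card.mp (hZ.isPGroup.to_le (inf_le_left : N ≤ Z))
        have h1 : (N.subgroupOf L).index = Nat.card (oddCore (X ⧸ N)) := by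
          have := PSolvable.card_mul_relIndex hNL
          rw [hcard] at this
          exact mul_left_cancel₀ Nat.card_pos.ne' this
        rw [h1, Nat.card_congr (subgroupOfEquivOfLe hNL).toEquiv, hj]
        exact Nat.Coprime.pow_left j (PSolvable.pPrimeCore_coprime).symm
      obtain ⟨H, hH⟩ := exists_right_complement'_of_coprime hcop
      have hcenL : ∀ n ∈ N.subgroupOf L, ∀ l : L, l * n = n * l := fun n hn l =>
        Subtype.ext (mem_center_iff.mp hn.2 l)
      haveI : H.Normal := ⟨fun h hh l => by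
        obtain ⟨⟨⟨n, hn⟩, ⟨h', hh'⟩⟩, rfl⟩ := hH.surjective l
        show n * h' * h * (n * h')⁻¹ ∈ H
        rw [show n * h' * h * (n * h')⁻¹ = n * (h' * h * h'⁻¹) * n⁻¹ by group,
          ← hcenL n hn, mul_inv_cancel_right]
        exact mul_mem (mul_mem hh' hh) (inv_mem hh')⟩
      have hHodd : (Nat.card H).Coprime 2 := by
        rw [show Nat.card H = (N.subgroupOf L).index from
          hH.symm.index_eq_card.symm, ← relIndex]
        have := PSolvable.card_mul_relIndex hNL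
        rw [hcard] at this
        rw [mul_left_cancel₀ Nat.card_pos.ne' this]
        exact PSolvable.pPrimeCore_coprime
      haveI : L.Normal := inferInstance
      have hHbot : H ≤ pPrimeCore 2 L := PSolvable.le_pPrimeCore hHodd
      intro l hl
      obtain ⟨⟨⟨n, hn⟩, ⟨h', hh'⟩⟩, he⟩ := hH.surjective ⟨l, hl⟩
      have h3 := (PSolvable.map_subtype_pPrimeCore_of_normal (p := 2) L).le
        (mem_map_of_mem L.subtype (hHbot hh'))
      rw [show pPrimeCore 2 X = ⊥ from hO, bot_inf_eq, mem_bot] at h3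
      have : l = (n : X) * (h' : X) := (congrArg Subtype.val he).symm
      rw [this, show (h' : X) = 1 from h3, mul_one]
      exact hn
    have hN1 : N ≠ ⊥ := fun h => ha1 (mem_bot.mp (h.le ⟨ha, hac⟩))
    have hcov := ih _ (hlt N inferInstance hN1) _ rfl _ t ht
    refine normalizer_eq_top_iff.mp (eq_top_iff.mpr fun x _ => ?_)
    obtain ⟨o, ho, n, hn, hxn⟩ := hcov (x : X ⧸ N)
    rw [hO', mem_bot] at ho
    rw [ho, one_mul] at hxn
    obtain ⟨m, hm, hmn⟩ := hnormN n hn
    have hd : m⁻¹ * x ∈ N := QuotientGroup.eq.mp (hmn.trans hxn.symm)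
    rw [show x = m * (m⁻¹ * x) by group]
    refine mul_mem hm (mem_normalizer_fintype fun b hb => ?_)
    rw [← mem_center_iff.mp hd.2 b, mul_inv_cancel_right]
    exact hb
  -- small `Z`
  by_cases hsmall : Nat.card Z < 8
  · have : Z = ⊥ := eq_bot_iff.mpr fun a ha => mem_bot.mpr (hZ.normal_of_small hO hc ha hsmall)
    rw [this]
    infer_instance
  have hcov : ∀ H : Subgroup X, Z ≤ H → H ≠ ⊤ →
      ∀ x ∈ H, ∃ o ∈ core H, ∃ n ∈ normalizer (Z : Set X), x = o * n ∧ n ∈ H := by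
    intro H hle hne x hx
    have hlt' : Nat.card H < k := hk ▸ lt_of_le_of_ne H.card_le_card_group
      fun h => hne (H.eq_top_of_card_eq h)
    obtain ⟨o, ho, n, hn, he⟩ := ih _ hlt' H rfl _ _ (hZ.restrict H hle) ⟨x, hx⟩
    exact ⟨o, ⟨o, ho, rfl⟩, n, mem_normalizer_fintype fun z hz =>
      (mem_normalizer_iff.mp hn ⟨z, hle hz⟩).mp hz, congrArg Subtype.val he, n.2⟩
  have hproper : ∀ a ∈ Z, a ≠ 1 → centralizer ({a} : Set X) ≠ ⊤ := fun a ha ha1 h =>
    ha1 (hc a ha (mem_center_iff.mpr fun g =>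
      mem_centralizer_singleton_iff.mp (h.ge (mem_top g))))
  have hsig := hZ.isSignalizerFunctor hcov hproper
  have hZel : Cfsg.IsElementaryAbelian 2 Z :=
    ⟨⟨⟨fun b c => Subtype.ext (hZ.comm b b.2 c c.2)⟩⟩, fun b hb => by rw [pow_two, hZ.sq b hb]⟩
  obtain ⟨hW2, -, -, hW⟩ := SignalizerSolvable.closure_of_solvable (p := 2) hZel
    (by norm_num; omega) hsig
  set W := signalizerClosure Z fun a => core (centralizer ({a} : Set X)) with hWdef
  have hWN : ∀ n ∈ normalizer (Z : Set X), ∀ w ∈ W, n * w * n⁻¹ ∈ W := fun n hn w hw => by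
    have hle : W ≤ W.comap (MulAut.conj n).toMonoidHom := iSup_le fun ⟨a, ha, ha1⟩ x hx => by
      have h1 := conj_mem_core (map_conj_centralizer n a) hx
      exact le_iSup (fun a : {a : X // a ∈ Z ∧ a ≠ 1} => core (centralizer ({(a : X)} : Set X)))
        ⟨n * a * n⁻¹, (mem_normalizer_iff.mp hn a).mp ha, fun h => ha1 (conj_eq_one_iff.mp h)⟩ h1
    exact hle hw
  set M := W ⊔ normalizer (Z : Set X) with hM
  have hZM : Z ≤ M := le_normalizer.trans le_sup_right
  have hCM : ∀ a ∈ Z, a ≠ 1 → centralizer ({a} : Set X) ≤ M := fun a ha ha1 x hx => by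
    obtain ⟨o, ho, n, hn, rfl, -⟩ := hcov _ (fun b hb =>
      mem_centralizer_singleton_iff.mpr (hZ.comm b hb a ha)) (hproper a ha ha1) x hx
    exact mul_mem (mem_sup_left (le_iSup (fun a : {a : X // a ∈ Z ∧ a ≠ 1} =>
      core (centralizer ({(a : X)} : Set X))) ⟨a, ha, ha1⟩ ho)) (mem_sup_right hn)
  by_cases hMtop : M = ⊤
  · have hWn : W ≤ normalizer (W : Set X) := le_normalizer
    have hNn : normalizer (Z : Set X) ≤ normalizer (W : Set X) := fun n hn =>
      mem_normalizer_fintype fun w hw => hWN n hn w hw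
    haveI : W.Normal := normalizer_eq_top_iff.mp (top_le_iff.mp (hMtop ▸ sup_le hWn hNn))
    have hWbot : W = ⊥ := le_bot_iff.mp (hO ▸ PSolvable.le_pPrimeCore (p := 2)
      ((Nat.prime_two.coprime_iff_not_dvd.mpr hW2).symm))
    rw [hM, hWbot, bot_sup_eq] at hMtop
    exact normalizer_eq_top_iff.mp hMtop
  -- every conjugate of an element of `Z` lies in `M`
  have hCt : ∀ a ∈ Z, a ≠ 1 → ∀ g : X, g * a * g⁻¹ ∈ M →
      centralizer ({g * a * g⁻¹} : Set X) ≤ M := by
    intro a ha ha1 g hg x hx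
    obtain ⟨m, hm, hmZ⟩ := hZ.sylow_conj_mem hZM ha hg
    have h2 : m * x * m⁻¹ ∈ M := hCM _ hmZ (fun h => ha1
      (conj_eq_one_iff.mp (conj_eq_one_iff.mp h)))
      ((map_conj_centralizer m (g * a * g⁻¹)).le ⟨x, hx, rfl⟩)
    have := mul_mem (mul_mem (inv_mem hm) h2) hm
    simpa [mul_assoc] using this
  have hstep : ∀ a ∈ Z, a ≠ 1 → ∀ b ∈ Z, b ≠ 1 → ∀ g h : X, g * a * g⁻¹ ∈ M →
      (∀ x : X, x * a * x⁻¹ ≠ b) → h * b * h⁻¹ ∈ M := by
    intro a ha ha1 b hb hb1 g h hg hnc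
    obtain ⟨t, ht⟩ : ∃ t, t = g * a * g⁻¹ := ⟨_, rfl⟩
    obtain ⟨u, hu⟩ : ∃ u, u = h * b * h⁻¹ := ⟨_, rfl⟩
    rw [← hu]
    have ht2 : t * t = 1 := by
      rw [ht, show g * a * g⁻¹ * (g * a * g⁻¹) = g * (a * a) * g⁻¹ by group, hZ.sq a ha]; group
    have hu2 : u * u = 1 := by
      rw [hu, show h * b * h⁻¹ * (h * b * h⁻¹) = h * (b * b) * h⁻¹ by group, hZ.sq b hb]; group
    have hti : t⁻¹ = t := inv_eq_of_mul_eq_one_right ht2
    have hui : u⁻¹ = u := inv_eq_of_mul_eq_one_right hu2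
    set d := t * u with hd
    have hdt : t * d * t⁻¹ = d⁻¹ := by rw [hd, mul_inv_rev, hti, hui, ← mul_assoc, ht2, one_mul]
    have hdtk : ∀ j : ℕ, t * d ^ j = (d ^ j)⁻¹ * t := fun j => by
      rw [← mul_inv_eq_iff_eq_mul, ← conj_pow, hdt, inv_pow]
    have hdu : u = t * d := by rw [hd, ← mul_assoc, ht2, one_mul]
    rcases Nat.even_or_odd' (orderOf d) with ⟨m, hm | hm⟩
    · -- even order
      set i := d ^ m with hi
      have hi2 : i * i = 1 := by
        rw [hi, ← pow_add, show m + m = orderOf d by omega, pow_orderOf_eq_one]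
      have hii : i⁻¹ = i := inv_eq_of_mul_eq_one_right hi2
      have hit : t * i = i * t := by rw [hi, hdtk, ← hi, hii]
      have hid : Commute i d := (Commute.pow_self d m)
      have hiu : u * i = i * u := by
        rw [hdu, mul_assoc, ← hid.eq, ← mul_assoc, hit, mul_assoc]
      have hi1 : i ≠ 1 := fun h1 => by
        have := orderOf_dvd_of_pow_eq_one h1
        have hpos := orderOf_pos d
        have := Nat.le_of_dvd (by omega) this
        omega
      -- `t i` is a conjugate of an element of `Z`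
      obtain ⟨c, hc', k, hck⟩ : ∃ c ∈ Z, ∃ k : X, k * c * k⁻¹ = t * i := by
        obtain ⟨j, hj | hj⟩ := Nat.even_or_odd' m
        · refine ⟨a, ha, (d ^ j)⁻¹ * g, ?_⟩
          rw [hi, show m = j + j by omega, pow_add, ← mul_assoc, hdtk, ht]
          group
        · refine ⟨b, hb, (d ^ j)⁻¹ * h, ?_⟩
          rw [hi, show m = j + (1 + j) by omega, pow_add, pow_add, pow_one, ← mul_assoc,
            hdtk, show (d ^ j)⁻¹ * t * (d * d ^ j) = (d ^ j)⁻¹ * (t * d) * d ^ j by group, ← hdu, hu]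
          group
      have hcomm : Commute t (t * i) := by
        show t * (t * i) = t * i * t
        rw [mul_assoc, ← hit]
      have h2t : t ^ 2 = 1 := by rw [pow_two, ht2]
      have h2ti : (t * i) ^ 2 = 1 := by
        rw [(show Commute t i from hit).mul_pow, h2t, pow_two, hi2, one_mul]
      obtain ⟨e, he⟩ := hZ.conj_pair (Coprime.isPGroup_closure_pair (p := 2) hcomm h2t h2ti)
      have e1 := he a ha g (ht ▸ subset_closure (Set.mem_insert _ _))
      rw [← ht] at e1
      have e2 := he c hc' k (hck ▸ subset_closure (Set.mem_insert_of_mem _ rfl))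
      rw [hck] at e2
      have hiZ : e * i * e⁻¹ ∈ Z := by
        have := mul_mem e1 e2
        rwa [show e * t * e⁻¹ * (e * (t * i) * e⁻¹) = e * (t * t * i) * e⁻¹ by group, ht2,
          one_mul] at this
      have hiM : i ∈ M := hCt a ha ha1 g hg (ht ▸ mem_centralizer_singleton_iff.mpr hit.symm)
      have e3 : e⁻¹ * (e * i * e⁻¹) * (e⁻¹)⁻¹ = i := by group
      have := hCt _ hiZ (fun h1 => hi1 (conj_eq_one_iff.mp h1)) e⁻¹ (by rw [e3]; exact hiM)
      rw [e3] at this
      exact this (mem_centralizer_singleton_iff.mpr hiu)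
    · -- odd order: `t` and `u` are conjugate
      exfalso
      set e := d ^ (m + 1) with he
      have hee : e * e = d := by
        rw [he, ← pow_add, show m + 1 + (m + 1) = orderOf d + 1 by omega, pow_succ,
          pow_orderOf_eq_one, one_mul]
      have htu : e⁻¹ * t * e = u := by
        rw [mul_assoc, he, hdtk, ← he, ← mul_assoc, ← mul_inv_rev, hee, hd, mul_inv_rev, hti,
          hui, mul_assoc, ht2, mul_one]
      apply hnc (h⁻¹ * e⁻¹ * g)
      rw [show h⁻¹ * e⁻¹ * g * a * (h⁻¹ * e⁻¹ * g)⁻¹ = h⁻¹ * (e⁻¹ * (g * a * g⁻¹) * e) * h by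
        group, ← ht, htu, hu]
      group
  have hall : ∀ b ∈ Z, ∀ h : X, h * b * h⁻¹ ∈ M := by
    intro b hb h
    rcases eq_or_ne b 1 with rfl | hb1
    · simp
    obtain ⟨a, ha, ha1⟩ : ∃ a ∈ Z, a ≠ 1 := ⟨b, hb, hb1⟩
    by_cases hconj : ∀ x : X, x * a * x⁻¹ ≠ b
    · exact hstep a ha ha1 b hb hb1 1 h (by simpa using hZM ha) hconj
    · push Not at hconj
      obtain ⟨x, hx⟩ := hconj
      have hsa1 : s a ≠ 1 := fun h' => ha1 (by
        have := hZ.cube a ha; rw [h', hZ.map_one, hZ.map_one] at this; exact this.symm)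
      refine hstep (s a) (hZ.mem a ha) hsa1 b hb hb1 1 h (by simpa using hZM (hZ.mem a ha))
        fun y hy => ?_
      refine ha1 (hZ.not_conj ha (g := y⁻¹ * x) ?_)
      rw [show y⁻¹ * x * a * (y⁻¹ * x)⁻¹ = y⁻¹ * (x * a * x⁻¹) * y by group, hx, ← hy]
      group
  -- the normal closure
  set N := normalClosure (Z : Set X) with hN
  have hNM : N ≤ M := (closure_le _).2 fun x hx => by
    obtain ⟨b, hb, hbx⟩ := Group.mem_conjugatesOfSet_iff.mp hx
    obtain ⟨g, hg⟩ := isConj_iff.mp hbx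
    exact hg ▸ hall b hb g
  have hZN : Z ≤ N := subset_normalClosure
  have hNne : N ≠ ⊤ := fun h => hMtop (top_le_iff.mp (h ▸ hNM))
  have hcoreN : core N = ⊥ := by
    rw [core, show oddCore N = pPrimeCore 2 N from rfl,
      PSolvable.map_subtype_pPrimeCore_of_normal, show pPrimeCore 2 X = ⊥ from hO, bot_inf_eq]
  haveI hZN' : (Z.subgroupOf N).Normal := ⟨fun z hz g => by
    obtain ⟨o, ho, n, hn, hgn, -⟩ := hcov N hZN hNne g g.2
    rw [hcoreN, mem_bot] at ho
    rw [ho, one_mul] at hgn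
    show (g : X) * (z : X) * (g : X)⁻¹ ∈ Z
    rw [hgn]
    exact (mem_normalizer_iff.mp hn _).mp hz⟩
  have hZO : Z ≤ pCore 2 X := fun z hz =>
    ((PSolvable.map_subtype_pCore_of_normal (p := 2) N).le (mem_map_of_mem N.subtype
      (PSolvable.le_pCore (hN := hZN') (hZ.isPGroup.comap_subtype) (show (⟨z, hZN hz⟩ : N) ∈ Z.subgroupOf N
        from hz)))).1
  exact ⟨fun z hz g => hZ.closed _ PSolvable.pCore_isPGroup hZO z hz g
    ((inferInstance : (pCore 2 X).Normal).conj_mem _ (hZO hz) g)⟩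

/-- `X = O(X) N(Z)`. -/
theorem cover {X : Type u} [Group X] [Finite X] {Z : Subgroup X} {s : X → X}
    (hZ : Twist X Z s) : Cover X Z :=
  cover_aux _ X rfl Z s hZ

end Cfsg.Agent.Lib.S3040Fpf54
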