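import Mathlib
import Cfsg.Agent.Lib.S3040Fpf54.Module
import Cfsg.Agent.Lib.S3040Fpf54.StrongMain
import Cfsg.Agent.Lib.SFourFree.FamilyControl
import Cfsg.Agent.Lib.Functor.Invariant

/-!
# Groups of order prime to `3` with a fixed-point-free group of automorphisms `S₃`
-/

set_option autoImplicit false
set_option linter.unusedSectionVars false

namespace Cfsg.Agent.Lib.S3040Fpf54

open Subgroup
open Cfsg.Agent.Lib
open Cfsg.Agent.Lib.Coprime (fixedBy)
open scoped Pointwise

universe u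

/-- The conclusion: `O_{2',2}(G)` has odd index and `G = O_{2',2}(G) C_G(σ)`. -/
def Good (G : Type u) [Group G] (σ : MulAut G) : Prop :=
  ¬ 2 ∣ (pPrimePCore 2 G).index ∧ pPrimePCore 2 G ⊔ fixedBy σ = ⊤

theorem coprime_two_pow (j : ℕ) {m : ℕ} (h : ¬ 2 ∣ m) : (2 ^ j).Coprime m :=
  (Nat.prime_two.coprime_iff_not_dvd.mpr h).pow_left j

section Basics

variable {G : Type u} [Group G] [Finite G]

theorem mem_of_characteristic {H : Subgroup G} (hH : H.Characteristic) (φ : MulAut G) {x : G}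
    (hx : x ∈ H) : φ x ∈ H :=
  (characteristic_iff_map_eq.mp hH φ).le (mem_map_of_mem φ.toMonoidHom hx)

theorem comap_quo_mem (φ : MulAut G) (N : Subgroup G) [N.Normal] (h : ∀ x ∈ N, φ x ∈ N)
    {H : Subgroup (G ⧸ N)} (hH : H.Characteristic) {x : G}
    (hx : x ∈ H.comap (QuotientGroup.mk' N)) : φ x ∈ H.comap (QuotientGroup.mk' N) :=
  mem_of_characteristic hH (quo φ N h) hx

theorem pPrimePCore_char : (pPrimePCore 2 G).Characteristic := by
  have hO : (pPrimeCore 2 G).Characteristic := PSolvable.pPrimeCore_characteristic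
  exact characteristic_iff_le_comap.mpr fun φ x hx =>
    comap_quo_mem φ (pPrimeCore 2 G) (fun y hy => mem_of_characteristic hO φ hy)
      PSolvable.pCore_characteristic hx

theorem mem_decomp (S : Sylow 2 G) {x : G} (hx : x ∈ pPrimePCore 2 G) :
    ∃ o ∈ oddCore G, ∃ t ∈ (S : Subgroup G), x = o * t := by
  haveI : Fact (Nat.Prime 2) := ⟨Nat.prime_two⟩
  obtain ⟨t, ht, he⟩ := PSolvable.pCore_le_sylow
    (S.mapSurjective (QuotientGroup.mk'_surjective (pPrimeCore 2 G))) hx
  refine ⟨x * t⁻¹, ?_, t, ht, by group⟩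
  rw [← QuotientGroup.eq_one_iff, QuotientGroup.mk_mul, QuotientGroup.mk_inv]
  simp only [QuotientGroup.mk'_apply] at he ⊢
  rw [he, mul_inv_cancel]

theorem sylow_le_normal {N : Subgroup G} [N.Normal] (h : ¬ 2 ∣ N.index) {Q : Subgroup G}
    (hQ : IsPGroup 2 Q) : Q ≤ N := by
  intro x hx
  obtain ⟨k, hk⟩ := hQ ⟨x, hx⟩
  have h1 : orderOf (x : G ⧸ N) ∣ 2 ^ k := orderOf_dvd_of_pow_eq_one (by
    rw [← QuotientGroup.mk_pow, show x ^ 2 ^ k = 1 from congrArg Subtype.val hk]; rfl)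
  have h2 : orderOf (x : G ⧸ N) ∣ N.index := orderOf_dvd_natCard _
  exact (QuotientGroup.eq_one_iff x).mp (orderOf_eq_one_iff.mp (Nat.eq_one_of_dvd_coprimes
    (coprime_two_pow k h) h1 h2))

/-- A normal subgroup, centralising a normal `2`-subgroup of odd index in it, is that subgroup. -/
theorem le_of_central_two (hO : oddCore G = ⊥) {L N : Subgroup G} [L.Normal] (hNL : N ≤ L)
    (hN : IsPGroup 2 N) (hc : L ≤ centralizer (N : Set G)) (hodd : ¬ 2 ∣ N.relIndex L) :
    L ≤ N := by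
  have hcen : ∀ n ∈ N.subgroupOf L, ∀ l : L, l * n = n * l := fun n hn l =>
    Subtype.ext (mem_centralizer_iff.mp (hc l.2) n hn).symm
  haveI : (N.subgroupOf L).Normal := ⟨fun n hn l => by
    rw [hcen n hn, mul_inv_cancel_right]; exact hn⟩
  have hcop : (Nat.card (N.subgroupOf L)).Coprime (N.subgroupOf L).index := by
    obtain ⟨j, hj⟩ := IsPGroup.iff_card.mp hN
    rw [Nat.card_congr (subgroupOfEquivOfLe hNL).toEquiv, hj]
    exact coprime_two_pow j hodd
  obtain ⟨H, hH⟩ := exists_right_complement'_of_coprime hcop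
  haveI : H.Normal := ⟨fun h hh l => by
    obtain ⟨⟨⟨n, hn⟩, ⟨h', hh'⟩⟩, rfl⟩ := hH.surjective l
    show n * h' * h * (n * h')⁻¹ ∈ H
    rw [show n * h' * h * (n * h')⁻¹ = n * (h' * h * h'⁻¹) * n⁻¹ by group,
      ← hcen n hn, mul_inv_cancel_right]
    exact mul_mem (mul_mem hh' hh) (inv_mem hh')⟩
  have hHodd : (Nat.card H).Coprime 2 := by
    rw [show Nat.card H = (N.subgroupOf L).index from hH.symm.index_eq_card.symm]
    exact (Nat.prime_two.coprime_iff_not_dvd.mpr hodd).symm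
  intro l hl
  obtain ⟨⟨⟨n, hn⟩, ⟨h', hh'⟩⟩, he⟩ := hH.surjective ⟨l, hl⟩
  have h3 := (PSolvable.map_subtype_pPrimeCore_of_normal (p := 2) L).le
    (mem_map_of_mem L.subtype (PSolvable.le_pPrimeCore hHodd hh'))
  rw [show pPrimeCore 2 G = ⊥ from hO, bot_inf_eq, mem_bot] at h3
  rw [show l = (n : G) * (h' : G) from (congrArg Subtype.val he).symm,
    show (h' : G) = 1 from h3, mul_one]
  exact hn

end Basics

section Induction

variable {G : Type u} [Group G] [Finite G] {σ τ : MulAut G} (hf : Fpf G σ τ)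
include hf

/-- Lifting a product with fixed points from a quotient. -/
theorem sup_fixed_of_quotient (N : Subgroup G) [N.Normal] (hs : ∀ x ∈ N, σ x ∈ N)
    (M : Subgroup (G ⧸ N)) [M.Normal] (h : M ⊔ fixedBy (quo σ N hs) = ⊤) :
    M.comap (QuotientGroup.mk' N) ⊔ fixedBy σ = ⊤ := by
  refine eq_top_iff.mpr fun x _ => ?_
  obtain ⟨m, hm, c, hc, he⟩ := mem_sup_of_normal_left.mp (h.ge (mem_top (x : G ⧸ N)))
  obtain ⟨y, hy, rfl⟩ := exists_fixed_mk hf.s3 hf.three N hs hc
  rw [show x = x * y⁻¹ * y by group]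
  refine mul_mem_sup ?_ hy
  show ((x * y⁻¹ : G) : G ⧸ N) ∈ M
  rwa [QuotientGroup.mk_mul, QuotientGroup.mk_inv, ← he, mul_inv_cancel_right]

variable (hih : ∀ (H : Type u) [Group H] [Finite H], Nat.card H < Nat.card G →
  ∀ σ' τ' : MulAut H, Fpf H σ' τ' → Good H σ')
include hih

theorem good_sub (H : Subgroup G) (hs : ∀ x ∈ H, σ x ∈ H) (ht : ∀ x ∈ H, τ x ∈ H) (hne : H ≠ ⊤) :
    Good H (res σ H hs) :=
  hih H (lt_of_le_of_ne H.card_le_card_group fun h => hne (H.eq_top_of_card_eq h)) _ _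
    (hf.restrict H hs ht)

theorem good_of_oddCore_ne_bot (hO : oddCore G ≠ ⊥) : Good G σ := by
  have hO' : (pPrimeCore 2 G).Characteristic := PSolvable.pPrimeCore_characteristic
  have hs : ∀ x ∈ pPrimeCore 2 G, σ x ∈ pPrimeCore 2 G := fun x hx => mem_of_characteristic hO' σ hx
  have ht : ∀ x ∈ pPrimeCore 2 G, τ x ∈ pPrimeCore 2 G := fun x hx => mem_of_characteristic hO' τ hx
  have hlt : Nat.card (G ⧸ pPrimeCore 2 G) < Nat.card G := by
    rw [(pPrimeCore 2 G).card_eq_card_quotient_mul_card_subgroup]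
    exact lt_mul_of_one_lt_right Nat.card_pos ((one_lt_card_iff_ne_bot _).mpr hO)
  obtain ⟨h1, h2⟩ := hih _ hlt _ _ (hf.quotient _ hs ht)
  rw [PSolvable.pPrimePCore_of_pPrimeCore_eq_bot PSolvable.pPrimeCore_quotient_eq_bot] at h1 h2
  refine ⟨?_, sup_fixed_of_quotient hf _ hs _ h2⟩
  rw [show pPrimePCore 2 G = (pCore 2 (G ⧸ pPrimeCore 2 G)).comap
    (QuotientGroup.mk' (pPrimeCore 2 G)) from rfl,
    index_comap_of_surjective _ (QuotientGroup.mk'_surjective _)]
  exact h1

theorem good_of_pCore_ne_bot (hO : oddCore G = ⊥) (hO2 : pCore 2 G ≠ ⊥) : Good G σ := by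
  haveI : Fact (Nat.Prime 2) := ⟨Nat.prime_two⟩
  set N := pCore 2 G with hN
  have hNc : N.Characteristic := PSolvable.pCore_characteristic
  have hNs : ∀ x ∈ N, σ x ∈ N := fun x hx => mem_of_characteristic hNc σ hx
  have hNt : ∀ x ∈ N, τ x ∈ N := fun x hx => mem_of_characteristic hNc τ hx
  have hN2 : IsPGroup 2 N := PSolvable.pCore_isPGroup
  have hP : pPrimePCore 2 G = N := PSolvable.pPrimePCore_of_pPrimeCore_eq_bot hO
  have hlt : Nat.card (G ⧸ N) < Nat.card G := by
    rw [N.card_eq_card_quotient_mul_card_subgroup]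
    exact lt_mul_of_one_lt_right Nat.card_pos ((one_lt_card_iff_ne_bot _).mpr hO2)
  have hfq := hf.quotient N hNs hNt
  obtain ⟨h1, h2⟩ := hih _ hlt _ _ hfq
  have hcore2 : pCore 2 (G ⧸ N) = ⊥ := PSolvable.pCore_quotient_eq_bot
  set Pb := pPrimePCore 2 (G ⧸ N) with hPb
  haveI : Pb.Normal := PSolvable.pPrimePCore_normal
  set K := Pb.comap (QuotientGroup.mk' N) with hK
  by_cases hKtop : K = ⊤
  swap
  · -- a proper subgroup
    have hKs : ∀ x ∈ K, σ x ∈ K := fun x hx => comap_quo_mem σ N hNs pPrimePCore_char hx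
    have hKt : ∀ x ∈ K, τ x ∈ K := fun x hx => comap_quo_mem τ N hNt pPrimePCore_char hx
    obtain ⟨k1, k2⟩ := good_sub hf hih K hKs hKt hKtop
    have hOK : pPrimeCore 2 K = ⊥ := by
      have h := PSolvable.map_subtype_pPrimeCore_of_normal (p := 2) K
      rw [show pPrimeCore 2 G = ⊥ from hO, bot_inf_eq] at h
      exact (map_eq_bot_iff_of_injective _ K.subtype_injective).mp h
    rw [PSolvable.pPrimePCore_of_pPrimeCore_eq_bot hOK] at k1 k2
    have hKle : (pCore 2 K).map K.subtype ≤ N :=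
      (PSolvable.map_subtype_pCore_of_normal (p := 2) K).le.trans inf_le_left
    have hidx : ¬ 2 ∣ N.relIndex K := fun h => k1 (h.trans (by
      rw [relIndex]
      refine index_dvd_of_le fun x hx => ?_
      exact hKle (mem_map_of_mem K.subtype hx)))
    have hNidx : ¬ 2 ∣ N.index := by
      have hNK : N ≤ K := QuotientGroup.le_comap_mk' N Pb
      rw [← relIndex_mul_index hNK, hK, index_comap_of_surjective _
        (QuotientGroup.mk'_surjective N)]
      exact fun h => (Nat.prime_two.dvd_mul.mp h).elim (hK ▸ hidx) h1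
    refine ⟨hP ▸ hNidx, ?_⟩
    rw [hP, eq_top_iff]
    have hsup := sup_fixed_of_quotient hf N hNs Pb h2
    rw [← hsup]
    refine sup_le (fun x hx => ?_) le_sup_right
    obtain ⟨m, hm, c, hc, he⟩ := mem_sup_of_normal_left.mp (k2.ge (mem_top (⟨x, hx⟩ : K)))
    rw [show x = (m : G) * c from (congrArg Subtype.val he).symm]
    exact mul_mem_sup (hKle (mem_map_of_mem K.subtype hm)) (congrArg Subtype.val hc)
  -- `G/N` is the odd core times a Sylow `2`-subgroup
  have hPtop : Pb = ⊤ := by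
    rw [eq_top_iff]
    intro q _
    obtain ⟨x, rfl⟩ := QuotientGroup.mk_surjective q
    exact hKtop.ge (mem_top x)
  set O := pPrimeCore 2 (G ⧸ N) with hOdef
  have hOc : O.Characteristic := PSolvable.pPrimeCore_characteristic
  have hOodd : Odd (Nat.card O) :=
    Nat.coprime_two_right.mp PSolvable.pPrimeCore_coprime
  set R := O.comap (QuotientGroup.mk' N) with hR
  have hRs : ∀ x ∈ R, σ x ∈ R := fun x hx => comap_quo_mem σ N hNs hOc hx
  have hNR : N ≤ R := QuotientGroup.le_comap_mk' N O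
  have hRidx : N.relIndex R = Nat.card O := by
    have h := PSolvable.card_mul_relIndex hNR
    rw [hR, PSolvable.card_comap_mk'] at h
    exact mul_left_cancel₀ Nat.card_pos.ne' h
  have hcent : R ⊓ centralizer (N : Set G) ≤ N := by
    haveI : (centralizer (N : Set G)).Normal := inferInstance
    refine le_trans ?_ (inf_le_left (b := centralizer (N : Set G)))
    refine le_of_central_two hO (N := N ⊓ centralizer (N : Set G))
      (inf_le_inf_right _ hNR) hN2.to_inf_left
      (fun x hx => mem_centralizer_iff.mpr fun n hn => mem_centralizer_iff.mp hx.2 n hn.1) ?_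
    refine fun h => (Nat.not_even_iff_odd.mpr hOodd) (even_iff_two_dvd.mpr (h.trans ?_))
    rw [← hRidx]
    set C := centralizer (N : Set G)
    rw [show N ⊓ C = N ⊓ (R ⊓ C) by rw [← inf_assoc, inf_eq_left.mpr hNR], inf_relIndex_right,
      hRidx]
    have h := relIndex_ker (QuotientGroup.mk' N) (K := R ⊓ C)
    rw [QuotientGroup.ker_mk'] at h
    rw [h]
    exact card_dvd_of_le (map_le_iff_le_comap.mpr inf_le_left)
  -- `σ` centralises `O(G/N)`
  have hfixO : ∀ q ∈ O, quo σ N hNs q = q := by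
    have hodd_q : ∀ p : ℕ, p.Prime → p ∣ Nat.card O → p ≠ 2 := fun p _ hd h2' =>
      Nat.not_even_iff_odd.mpr hOodd (even_iff_two_dvd.mpr (h2' ▸ hd))
    set F := fixedBy (quo σ N hNs) with hF
    suffices hle : O ≤ F from hle
    rw [← relIndex_eq_one, Nat.eq_one_iff_not_exists_prime_dvd]
    intro p hp hd
    haveI := Fact.mk hp
    have hp2 : p ≠ 2 := hodd_q p hp (hd.trans (relIndex_dvd_card F O))
    obtain ⟨Q, hQ⟩ := exists_invariant_sylow (σ := res σ R hRs) (res_cube hf.s3 R hRs)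
      (not_three_dvd_subgroup hf.three R) p
    set QG := (Q : Subgroup R).map R.subtype with hQG
    have hQs : ∀ x ∈ QG, σ x ∈ QG := by
      rintro _ ⟨x, hx, rfl⟩
      exact ⟨res σ R hRs x, mem_of_smul_eq hQ hx, rfl⟩
    have hQodd : Odd (Nat.card QG) := by
      obtain ⟨k, hk⟩ := IsPGroup.iff_card.mp (Q.2.map R.subtype)
      rw [hk]
      exact (hp.odd_of_ne_two hp2).pow
    haveI : N.Normal := inferInstance
    let φ : QG →* MulAut N := (MulAut.conjNormal : G →* MulAut N).comp QG.subtype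
    have hinj : Function.Injective φ := by
      refine (injective_iff_map_eq_one φ).mpr fun y hy => Subtype.ext ?_
      obtain ⟨x, hx, hxy⟩ := y.2
      have hyR : (y : G) ∈ R := hxy ▸ x.2
      refine eq_one_of_odd hQodd y.2 ?_ |>.trans rfl
      have hyc : (y : G) ∈ centralizer (N : Set G) := mem_centralizer_iff.mpr fun n hn => by
        have := congrArg (fun e : MulAut N => ((e ⟨n, hn⟩ : N) : G)) hy
        simp only [φ, MonoidHom.comp_apply, Subgroup.coe_subtype, MulAut.conjNormal_apply,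
          MulAut.one_apply] at this
        exact (mul_inv_eq_iff_eq_mul.mp this).symm
      obtain ⟨k, hk⟩ := hN2 ⟨y, hcent ⟨hyR, hyc⟩⟩
      have hk' : (y : G) ^ 2 ^ k = 1 := congrArg Subtype.val hk
      have h1 : orderOf (y : G) ∣ 2 ^ k := orderOf_dvd_of_pow_eq_one hk'
      have h2' : orderOf (y : G) ∣ Nat.card QG :=
        orderOf_coe y ▸ orderOf_dvd_natCard y
      rw [orderOf_eq_one_iff.mp (Nat.eq_one_of_dvd_coprimes (coprime_two_pow k
        (fun h => Nat.not_even_iff_odd.mpr hQodd (even_iff_two_dvd.mpr h))) h1 h2'), one_mul]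
    have hfix : ∀ x ∈ QG, σ x = x := fun x hx => congrArg Subtype.val
      (centralise φ (res σ QG hQs) (res σ N hNs) hinj hN2 hQodd
        (not_three_dvd_subgroup hf.three QG) (res_cube hf.s3 QG hQs) (res_cube hf.s3 N hNs)
        (fun v hv => Subtype.ext (hf.eq_one_of_fixed_pGroup hN2 (congrArg Subtype.val hv) v.2))
        (fun y v => Subtype.ext (by
          simp [φ, res_coe, map_mul]))
        ⟨x, hx⟩)
    -- the image is a Sylow subgroup of the odd core
    let g : R →* O := (QuotientGroup.mk' N).subgroupComap O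
    have hg : Function.Surjective g := fun ⟨q, hq⟩ => by
      obtain ⟨x, rfl⟩ := QuotientGroup.mk'_surjective N q
      exact ⟨⟨x, hq⟩, rfl⟩
    refine (Q.mapSurjective hg).not_dvd_index (hd.trans (index_dvd_of_le ?_))
    rintro _ ⟨x, hx, rfl⟩
    show quo σ N hNs ((x : G) : G ⧸ N) = ((x : G) : G ⧸ N)
    rw [quo_mk, hfix x ⟨x, hx, rfl⟩]
  -- the Sylow `2`-subgroup of `G/N` is trivial
  obtain ⟨S, hSs, -⟩ := hfq.exists_sylow
  have hdec : ∀ q : G ⧸ N, ∃ o ∈ O, ∃ t ∈ (S : Subgroup (G ⧸ N)), q = o * t := fun q =>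
    mem_decomp S (hPb ▸ hPtop.ge (mem_top q))
  set W := (S : Subgroup (G ⧸ N)) ⊓ centralizer (O : Set (G ⧸ N)) with hW
  haveI : W.Normal := ⟨fun w hw q => by
    obtain ⟨o, ho, t, ht, rfl⟩ := hdec q
    haveI : O.Normal := inferInstance
    have h1 : t * w * t⁻¹ ∈ W := ⟨Subgroup.mul_mem _ (Subgroup.mul_mem _ ht hw.1) (Subgroup.inv_mem _ ht),
      (inferInstance : (centralizer (O : Set (G ⧸ N))).Normal).conj_mem w hw.2 t⟩
    rw [show o * t * w * (o * t)⁻¹ = o * (t * w * t⁻¹) * o⁻¹ by group,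
      mem_centralizer_iff.mp h1.2 o ho, mul_inv_cancel_right]
    exact h1⟩
  have hWbot : W = ⊥ := le_bot_iff.mp (hcore2 ▸ PSolvable.le_pCore S.2.to_inf_left)
  have hStriv : ∀ t ∈ (S : Subgroup (G ⧸ N)), t = 1 := fun t ht => by
    have hmem : t⁻¹ * quo σ N hNs t ∈ W := by
      refine ⟨Subgroup.mul_mem _ (Subgroup.inv_mem _ ht) (hSs t ht), mem_centralizer_iff.mpr fun o ho => ?_⟩
      have h3 := hfixO _ ((inferInstance : O.Normal).conj_mem o ho t)
      rw [map_mul, map_mul, map_inv, hfixO o ho] at h3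
      calc o * (t⁻¹ * quo σ N hNs t) = t⁻¹ * (t * o * t⁻¹) * quo σ N hNs t := by group
        _ = t⁻¹ * quo σ N hNs t * o := by rw [← h3]; group
    rw [hWbot, mem_bot, inv_mul_eq_one] at hmem
    exact hfq.eq_one_of_fixed_pGroup S.2 hmem.symm ht
  have hOtop : ∀ q : G ⧸ N, q ∈ O := fun q => by
    obtain ⟨o, ho, t, ht, rfl⟩ := hdec q
    rw [hStriv t ht, mul_one]
    exact ho
  refine ⟨hP ▸ ?_, ?_⟩
  · rw [index_eq_card]
    intro h
    have e : O = ⊤ := eq_top_iff.mpr fun q _ => hOtop q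
    rw [e, card_top] at hOodd
    exact Nat.not_even_iff_odd.mpr hOodd (even_iff_two_dvd.mpr h)
  · rw [hP]
    refine eq_top_iff.mpr fun x _ => ?_
    obtain ⟨y, hy, hyx⟩ := exists_fixed_mk hf.s3 hf.three N hNs (hfixO _ (hOtop (x : G ⧸ N)))
    rw [show x = x * y⁻¹ * y by group]
    refine mul_mem_sup ?_ hy
    rw [← QuotientGroup.eq_one_iff, QuotientGroup.mk_mul, QuotientGroup.mk_inv, hyx,
      mul_inv_cancel]

end Induction

section Terminal

variable {G : Type u} [Group G] [Finite G] {σ τ : MulAut G} (hf : Fpf G σ τ)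
include hf

theorem not_involves_four : ¬ Cfsg.Involves (Equiv.Perm (Fin 4)) G := by
  rintro ⟨K, R, hR, ⟨e⟩⟩
  refine hf.three (dvd_trans ?_ K.card_subgroup_dvd_card)
  refine dvd_trans ?_ (R.subgroupOf K).card_quotient_dvd_card
  rw [Nat.card_congr e.toEquiv, Nat.card_perm]
  simp [Nat.factorial]

variable (hih : ∀ (H : Type u) [Group H] [Finite H], Nat.card H < Nat.card G →
  ∀ σ' τ' : MulAut H, Fpf H σ' τ' → Good H σ')
include hih

/-- Normalisers of invariant subgroups above `Z(S)` normalise the involutions of `Z(S)`. -/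
theorem mem_normalizer_of_mem (hO2 : pCore 2 G = ⊥) {S : Sylow 2 G}
    (hSs : ∀ x ∈ (S : Subgroup G), σ x ∈ (S : Subgroup G))
    {Z : Subgroup G} (hZS : ∀ a ∈ Z, ∀ x ∈ (S : Subgroup G), x * a = a * x)
    (hZc : ∀ g ∈ normalizer ((S : Subgroup G) : Set G), g ∈ normalizer (Z : Set G))
    {U : Subgroup G} (hUS : U ≤ (S : Subgroup G)) (hZU : Z ≤ U) (hU : U ≠ ⊥)
    (hUs : ∀ x ∈ U, σ x ∈ U) (hUt : ∀ x ∈ U, τ x ∈ U)
    (hSU : (S : Subgroup G) ≤ normalizer (U : Set G)) {n : G}
    (hn : n ∈ normalizer (U : Set G)) :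
    n ∈ normalizer (Z : Set G) ∧
      ∃ m c : G, σ c = c ∧ n = m * c ∧ c ∈ normalizer (U : Set G) ∧ ∀ a ∈ Z, m * a = a * m := by
  haveI : Fact (Nat.Prime 2) := ⟨Nat.prime_two⟩
  set M := normalizer (U : Set G) with hM
  have hMne : M ≠ ⊤ := fun h => by
    haveI : U.Normal := normalizer_eq_top_iff.mp h
    exact hU (le_bot_iff.mp (hO2 ▸ PSolvable.le_pCore (S.2.to_le hUS)))
  have hstable : ∀ φ : MulAut G, (∀ x ∈ U, φ x ∈ U) → ∀ x ∈ M, φ x ∈ M := by
    intro φ hφ x hx
    refine mem_normalizer_fintype fun u hu => ?_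
    obtain ⟨v, hv, rfl⟩ := (Coprime.map_eq_of_forall_mem φ hφ).ge hu
    show φ x * φ v * (φ x)⁻¹ ∈ U
    rw [← map_mul, ← map_inv, ← map_mul]
    exact hφ _ ((mem_normalizer_iff.mp hx v).mp hv)
  obtain ⟨k1, k2⟩ := good_sub hf hih M (hstable σ hUs) (hstable τ hUt) hMne
  let SM : Sylow 2 M := S.subtype hSU
  set P := pPrimePCore 2 M with hP
  haveI : P.Normal := PSolvable.pPrimePCore_normal
  have hSP : (SM : Subgroup M) ≤ P := sylow_le_normal k1 SM.2
  have hcomm : ∀ o ∈ oddCore M, ∀ a ∈ Z, (o : G) * a = a * (o : G) := by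
    intro o ho a ha
    have haM : a ∈ M := le_normalizer (hZU ha)
    set w := o * (⟨a, haM⟩ : M) * o⁻¹ * (⟨a, haM⟩ : M)⁻¹ with hw
    have h1 : w ∈ oddCore M := by
      rw [hw, show o * (⟨a, haM⟩ : M) * o⁻¹ * (⟨a, haM⟩ : M)⁻¹ =
        o * ((⟨a, haM⟩ : M) * o⁻¹ * (⟨a, haM⟩ : M)⁻¹) by group]
      exact mul_mem ho ((inferInstance : (oddCore M).Normal).conj_mem _ (inv_mem ho) _)
    have h2 : (w : G) ∈ U :=
      U.mul_mem ((mem_normalizer_iff.mp o.2 a).mp (hZU ha)) (U.inv_mem (hZU ha))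
    have h3 : (w : G) = 1 := by
      obtain ⟨k, hk⟩ := S.2 ⟨w, hUS h2⟩
      have hk' : (w : G) ^ 2 ^ k = 1 := congrArg Subtype.val hk
      have hodd : ¬ 2 ∣ Nat.card (oddCore M) := PSolvable.pPrimeCore_not_dvd
      refine orderOf_eq_one_iff.mp (Nat.eq_one_of_dvd_coprimes (coprime_two_pow k hodd)
        (orderOf_dvd_of_pow_eq_one hk') ?_)
      rw [orderOf_coe]
      exact (orderOf_mk w h1) ▸ orderOf_dvd_natCard (⟨w, h1⟩ : oddCore M)
    exact mul_inv_eq_iff_eq_mul.mp (mul_inv_eq_one.mp h3)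
  have hZp : ∀ p ∈ P, ∀ a ∈ Z, (p : G) * a = a * (p : G) := by
    intro p hp a ha
    obtain ⟨o, ho, t, ht, rfl⟩ := mem_decomp SM hp
    show (o : G) * (t : G) * a = a * ((o : G) * (t : G))
    rw [mul_assoc, hZS a ha t ht, ← mul_assoc, hcomm o ho a ha, mul_assoc]
  have hPn : ∀ p ∈ P, (p : G) ∈ normalizer (Z : Set G) := fun p hp =>
    mem_normalizer_fintype fun a ha => by rw [hZp p hp a ha, mul_inv_cancel_right]; exact ha
  refine ⟨?_, ?_⟩
  · have htop := Sylow.normalizer_sup_eq_top' (N := P) SM hSP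
    obtain ⟨h, hh, p, hp, he⟩ := mem_sup_of_normal_right.mp (htop.ge (mem_top (⟨n, hn⟩ : M)))
    rw [show n = (h : G) * p from (congrArg Subtype.val he).symm]
    refine mul_mem (hZc _ (mem_normalizer_fintype fun x hx => ?_)) (hPn p hp)
    exact (mem_normalizer_iff.mp hh ⟨x, hSU hx⟩).mp hx
  · obtain ⟨p, hp, c, hc, he⟩ := mem_sup_of_normal_left.mp (k2.ge (mem_top (⟨n, hn⟩ : M)))
    exact ⟨p, c, congrArg Subtype.val hc, (congrArg Subtype.val he).symm, c.2, hZp p hp⟩

theorem false_of_cores_trivial (hO : oddCore G = ⊥) (hO2 : pCore 2 G = ⊥) [Nontrivial G] :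
    False := by
  classical
  haveI : Fact (Nat.Prime 2) := ⟨Nat.prime_two⟩
  obtain ⟨S, hSs, hSt⟩ := hf.exists_sylow
  have hSne : (S : Subgroup G) ≠ ⊥ := fun h => by
    have h1 := S.not_dvd_index
    rw [h, index_bot] at h1
    have h2 : (⊤ : Subgroup G) ≤ oddCore G := PSolvable.le_pPrimeCore (by
      rw [card_top]; exact (Nat.prime_two.coprime_iff_not_dvd.mpr h1).symm)
    rw [hO, le_bot_iff] at h2
    exact bot_ne_top h2.symm
  -- the involutions of `Z(S)`
  let Z : Subgroup G :=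
    { carrier := {x | x ∈ (S : Subgroup G) ∧ x * x = 1 ∧ ∀ y ∈ (S : Subgroup G), y * x = x * y}
      one_mem' := ⟨one_mem _, one_mul 1, fun y _ => by rw [mul_one, one_mul]⟩
      mul_mem' := fun {a b} ha hb => ⟨mul_mem ha.1 hb.1, by
        rw [show a * b * (a * b) = a * (b * a) * b by group, ha.2.2 b hb.1,
          show a * (a * b) * b = a * a * (b * b) by group, ha.2.1, hb.2.1, one_mul],
        fun y hy => by rw [← mul_assoc, ha.2.2 y hy, mul_assoc, hb.2.2 y hy, ← mul_assoc]⟩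
      inv_mem' := fun {a} ha => by rw [inv_eq_of_mul_eq_one_right ha.2.1]; exact ha }
  have hZS : Z ≤ (S : Subgroup G) := fun x hx => hx.1
  have hZcen : ∀ a ∈ Z, ∀ x ∈ (S : Subgroup G), x * a = a * x := fun a ha x hx => ha.2.2 x hx
  have hZmap : ∀ φ : MulAut G, (∀ x ∈ (S : Subgroup G), φ x ∈ (S : Subgroup G)) →
      ∀ a ∈ Z, φ a ∈ Z := fun φ hφ a ha =>
    ⟨hφ a ha.1, by rw [← map_mul, ha.2.1, map_one], fun y hy => by
      obtain ⟨w, hw, rfl⟩ := (Coprime.map_eq_of_forall_mem φ hφ).ge hy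
      show φ w * φ a = φ a * φ w
      rw [← map_mul, ha.2.2 w hw, map_mul]⟩
  have hZc : ∀ g ∈ normalizer ((S : Subgroup G) : Set G), g ∈ normalizer (Z : Set G) :=
    fun g hg => mem_normalizer_fintype fun a ha => by
      refine ⟨(mem_normalizer_iff.mp hg a).mp ha.1, ?_, fun y hy => ?_⟩
      · rw [show g * a * g⁻¹ * (g * a * g⁻¹) = g * (a * a) * g⁻¹ by group, ha.2.1]; group
      · have hy' : g⁻¹ * y * g ∈ (S : Subgroup G) := by
          simpa using (mem_normalizer_iff.mp (inv_mem hg) y).mp hy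
        calc y * (g * a * g⁻¹) = g * (g⁻¹ * y * g * a) * g⁻¹ := by group
          _ = g * a * g⁻¹ * y := by rw [ha.2.2 _ hy']; group
  have hZne : Z ≠ ⊥ := fun h => by
    haveI : Nontrivial (S : Subgroup G) := (nontrivial_iff_ne_bot _).mpr hSne
    have hcn := S.2.center_nontrivial
    obtain ⟨k, hk0, hk⟩ := (IsPGroup.nontrivial_iff_card
      (hG := S.2.to_subgroup (center (S : Subgroup G)))).mp hcn
    obtain ⟨z, hz⟩ := exists_prime_orderOf_dvd_card' 2 (hk ▸ dvd_pow_self 2 hk0.ne')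
    have hz2 : z * z = 1 := by
      have h0 := pow_orderOf_eq_one z
      rw [hz, pow_two] at h0
      exact h0
    have hmem : ((z : (S : Subgroup G)) : G) ∈ Z := ⟨(z : (S : Subgroup G)).2,
      congrArg (fun w : center (S : Subgroup G) => ((w : (S : Subgroup G)) : G)) hz2,
      fun y hy => congrArg Subtype.val (mem_center_iff.mp z.2 ⟨y, hy⟩)⟩
    rw [h, mem_bot] at hmem
    have : z = 1 := Subtype.ext (Subtype.ext hmem)
    rw [this, orderOf_one] at hz
    omega
  have hZel : Cfsg.IsElementaryAbelian 2 Z :=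
    ⟨⟨⟨fun a b => Subtype.ext (b.2.2.2 a a.2.1)⟩⟩, fun a ha => by rw [pow_two, ha.2.1]⟩
  have hne : ∀ U : Subgroup G, Z ≤ U → U ≠ ⊥ := fun U hU h => hZne (le_bot_iff.mp (h ▸ hU))
  -- the two functors
  have key : ∀ W : ∀ (Q : Type u) [Group Q], Subgroup Q,
      IsCharPFunctor.{u} 2 W → Z ≤ inducedFunctor W (S : Subgroup G) →
        ∀ n ∈ normalizer ((inducedFunctor W (S : Subgroup G) : Subgroup G) : Set G),
          n ∈ normalizer (Z : Set G) := by
    intro W hW hZU n hn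
    set U := inducedFunctor W (S : Subgroup G) with hU
    have hinv : ∀ φ : MulAut G, (∀ x ∈ (S : Subgroup G), φ x ∈ (S : Subgroup G)) →
        ∀ x ∈ U, φ x ∈ U := by
      intro φ hφ x hx
      have h := Functor.inducedFunctor_map hW S.2 φ.toMonoidHom φ.injective.injOn
      rw [show (S : Subgroup G).map φ.toMonoidHom = S from Coprime.map_eq_of_forall_mem φ hφ] at h
      rw [hU, h]
      exact mem_map_of_mem φ.toMonoidHom hx
    have hSU : (S : Subgroup G) ≤ normalizer (U : Set G) := fun g hg =>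
      mem_normalizer_fintype fun x hx => hinv (MulAut.conj g)
        (fun y hy => mul_mem (mul_mem hg hy) (inv_mem hg)) x hx
    exact (mem_normalizer_of_mem hf hih hO2 hSs hZcen hZc (Functor.inducedFunctor_le _) hZU
      (hne U hZU) (hinv σ hSs) (hinv τ hSt) hSU hn).1
  have hkey : ∀ W ∈ Functor.indFam SFourFree.FamilyControl.ceFam.{u} G,
      (∀ g : G, W (Functor.cj g (S : Subgroup G)) = Functor.cj g (W (S : Subgroup G))) ∧
      ∀ n ∈ normalizer ((W (S : Subgroup G) : Subgroup G) : Set G),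
        n ∈ normalizer (Z : Set G) := by
    rintro _ ⟨W, hW, rfl⟩
    refine ⟨Functor.inducedFunctor_cj (SFourFree.FamilyControl.ceFam_charPFunctor W hW) S.2,
      key W (SFourFree.FamilyControl.ceFam_charPFunctor W hW) ?_⟩
    rcases hW with rfl | rfl
    · rw [SFourFree.FamilyControl.inducedFunctor_centreFun]
      exact fun a ha => ⟨ha.1, mem_centralizer_iff.mpr fun y hy => ha.2.2 y hy⟩
    · rw [SFourFree.FamilyControl.inducedFunctor_jeFun]
      obtain ⟨A, hA⟩ := Thompson.exists_mem_maxIn 2 (S : Subgroup G)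
      refine le_trans ?_ (Thompson.le_thompsonSubgroupOf hA)
      have hAn : Z ≤ normalizer (A : Set G) := fun z hz => mem_normalizer_fintype fun a ha => by
        rw [← hz.2.2 a (hA.2.1 ha), mul_inv_cancel_right]; exact ha
      have hform : ∀ x ∈ A ⊔ Z, ∃ a ∈ A, ∃ z ∈ Z, a * z = x := fun x hx => by
        rw [← SetLike.mem_coe, coe_mul_of_right_le_normalizer_left A Z hAn] at hx
        exact Set.mem_mul.mp hx
      have hcomm : ∀ x ∈ A ⊔ Z, ∀ y ∈ A ⊔ Z, x * y = y * x := fun x hx y hy => by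
        obtain ⟨a, ha, z, hz, rfl⟩ := hform x hx
        obtain ⟨b, hb, w, hw, rfl⟩ := hform y hy
        have e1 : Commute a b := congrArg Subtype.val (hA.1.1.is_comm.comm ⟨a, ha⟩ ⟨b, hb⟩)
        have e2 : Commute a w := hw.2.2 a (hA.2.1 ha)
        have e3 : Commute b z := hz.2.2 b (hA.2.1 hb)
        have e4 : Commute z w := hw.2.2 z hz.1
        exact ((e1.mul_right e2).mul_left (e3.symm.mul_right e4)).eq
      have hel : Cfsg.IsElementaryAbelian 2 (A ⊔ Z) :=
        ⟨⟨⟨fun x y => Subtype.ext (hcomm x x.2 y y.2)⟩⟩, fun x hx => by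
          obtain ⟨a, ha, z, hz, rfl⟩ := hform x hx
          rw [(show Commute a z from hz.2.2 a (hA.2.1 ha)).mul_pow, hA.1.2 a ha, pow_two, hz.2.1,
            one_mul]⟩
      have heq := eq_of_le_of_card_ge (le_sup_left : A ≤ A ⊔ Z)
        (hA.2.2 _ hel (sup_le hA.2.1 hZS))
      exact heq ▸ le_sup_right
  -- strong closure
  obtain ⟨T, -, hT2, hTidx, hchain⟩ :=
    SFourFree.FamilyControl.familyControls_ce (not_involves_four hf)
  rw [relIndex_top_right] at hTidx
  let T' : Sylow 2 G := hT2.toSylow hTidx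
  obtain ⟨x, hx⟩ := MulAction.exists_smul_eq G S T'
  have hTS : T = Functor.cj x (S : Subgroup G) := by
    have h := congrArg (fun R : Sylow 2 G => (R : Subgroup G)) hx
    exact h.symm
  have hsc : ∀ a ∈ Z, ∀ g : G, g * a * g⁻¹ ∈ (S : Subgroup G) → g * a * g⁻¹ ∈ Z := by
    intro a ha g hg
    have hTmem : ∀ y ∈ (S : Subgroup G), x * y * x⁻¹ ∈ T := fun y hy =>
      hTS ▸ Functor.conj_mem_cj hy
    obtain ⟨k, c, hc0, hstep, -, hfin⟩ := hchain {x * a * x⁻¹} (x * g * x⁻¹) (mem_top _)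
      (Set.singleton_subset_iff.mpr (hTmem a (hZS ha))) (by
        rintro _ ⟨_, rfl, rfl⟩
        simpa [mul_assoc] using hTmem _ hg)
    have hall : ∀ i : Fin (k + 1), x⁻¹ * (c i * (x * a * x⁻¹) * (c i)⁻¹) * x ∈ Z := by
      intro i
      induction i using Fin.induction with
      | zero => simpa [hc0, mul_assoc] using ha
      | succ i ih =>
        obtain ⟨W, hW, -, hn⟩ := hstep i
        obtain ⟨hcj, hnorm⟩ := hkey W hW
        rw [hTS, hcj x, ← Functor.cj_normalizer] at hn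
        obtain ⟨m, hm, hme⟩ := hn
        have hmz := (mem_normalizer_iff.mp (hnorm m hm) _).mp ih
        have e : c i.succ = x * m * x⁻¹ * c i.castSucc := by
          rw [show x * m * x⁻¹ = c i.succ * (c i.castSucc)⁻¹ from hme]; group
        rw [e]
        simpa [mul_assoc] using hmz
    have h1 := hall (Fin.last k)
    rw [hfin _ rfl] at h1
    simpa [mul_assoc] using h1
  have hclosed : ClosedTwo Z := by
    intro Q hQ hZQ a ha g hg
    obtain ⟨R, hR⟩ := hQ.exists_le_sylow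
    obtain ⟨k, hk⟩ := MulAction.exists_smul_eq G R S
    have hRS : ∀ y ∈ (R : Subgroup G), k * y * k⁻¹ ∈ (S : Subgroup G) := fun y hy => by
      rw [← hk]; exact ⟨y, hy, rfl⟩
    have hkn : k ∈ normalizer (Z : Set G) := mem_normalizer_fintype fun b hb =>
      hsc b hb k (hRS b (hR (hZQ hb)))
    refine (mem_normalizer_iff.mp hkn _).mpr ?_
    have := hsc a ha (k * g) (by simpa [mul_assoc] using hRS _ (hR hg))
    simpa [mul_assoc] using this
  have hSN : (S : Subgroup G) ≤ normalizer (Z : Set G) := fun g hg =>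
    mem_normalizer_fintype fun a ha => by rw [hZcen a ha g hg, mul_inv_cancel_right]; exact ha
  have hcompat : ∀ n ∈ normalizer (Z : Set G), ∀ a ∈ Z, σ (n * a * n⁻¹) = n * σ a * n⁻¹ := by
    intro n hn a ha
    obtain ⟨-, m, c, hc, rfl, hcN, hm⟩ := mem_normalizer_of_mem hf hih hO2 hSs hZcen hZc hZS le_rfl
      hZne (hZmap σ hSs) (hZmap τ hSt) hSN hn
    have h1 : ∀ b ∈ Z, m * c * b * (m * c)⁻¹ = c * b * c⁻¹ := fun b hb => by
      rw [show m * c * b * (m * c)⁻¹ = m * (c * b * c⁻¹) * m⁻¹ by group,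
        hm _ ((mem_normalizer_iff.mp hcN b).mp hb), mul_inv_cancel_right]
    rw [h1 a ha, h1 _ (hZmap σ hSs a ha), map_mul, map_mul, map_inv, hc]
  have htw : Twist G Z σ :=
    { comm := fun a ha b hb => hb.2.2 a ha.1
      sq := fun a ha => ha.2.1
      closed := hclosed
      mem := hZmap σ hSs
      mul := fun a _ b _ => map_mul σ a b
      cube := fun a _ => hf.s3 a
      fpf := fun a ha h => hf.eq_one_of_fixed_pGroup S.2 h ha.1
      compat := hcompat
      three := hf.three }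
  haveI : Z.Normal := normalizer_eq_top_iff.mp (eq_top_iff.mpr fun g _ => by
    obtain ⟨o, ho, n, hn, rfl⟩ := cover htw g
    rw [hO, mem_bot] at ho
    rwa [ho, one_mul])
  exact hZne (le_bot_iff.mp (hO2 ▸ PSolvable.le_pCore (S.2.to_le hZS)))

end Terminal

theorem good_aux : ∀ k : ℕ, ∀ (G : Type u) [Group G] [Finite G], Nat.card G = k →
    ∀ σ τ : MulAut G, Fpf G σ τ → Good G σ := by
  intro k
  induction k using Nat.strong_induction_on with
  | _ k ih =>
  intro G _ _ hk σ τ hf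
  have hih : ∀ (H : Type u) [Group H] [Finite H], Nat.card H < Nat.card G →
      ∀ σ' τ' : MulAut H, Fpf H σ' τ' → Good H σ' :=
    fun H _ _ hlt σ' τ' h => ih _ (hk ▸ hlt) H rfl σ' τ' h
  by_cases hO : oddCore G = ⊥
  · by_cases hO2 : pCore 2 G = ⊥
    · rcases subsingleton_or_nontrivial G with h | h
      · refine ⟨?_, eq_top_iff.mpr fun x _ => ?_⟩
        · rw [index_eq_one.mpr (Subsingleton.elim _ _)]; norm_num
        · rw [Subsingleton.elim x 1]; exact one_mem _
      · exact (false_of_cores_trivial hf hih hO hO2).elim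
    · exact good_of_pCore_ne_bot hf hih hO hO2
  · exact good_of_oddCore_ne_bot hf hih hO

theorem good {G : Type u} [Group G] [Finite G] {σ τ : MulAut G} (hf : Fpf G σ τ) : Good G σ :=
  good_aux _ G rfl σ τ hf

theorem isSolvable {G : Type u} [Group G] [Finite G] {σ τ : MulAut G} (hf : Fpf G σ τ) :
    Group.IsSolvable G := by
  haveI : Fact (Nat.Prime 2) := ⟨Nat.prime_two⟩
  obtain ⟨-, h2⟩ := good hf
  set O := pPrimeCore 2 G with hO
  haveI : Group.IsSolvable O :=
    Cfsg.Agent.S0205.result (Nat.coprime_two_right.mp PSolvable.pPrimeCore_coprime)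
  set Pb := pCore 2 (G ⧸ O) with hPb
  haveI hPs : Group.IsSolvable Pb := by
    haveI := (PSolvable.pCore_isPGroup (p := 2) (G := G ⧸ O)).isNilpotent
    infer_instance
  haveI : Group.IsSolvable ((G ⧸ O) ⧸ Pb) := Group.isSolvable_of_comm fun a b => by
    obtain ⟨a, rfl⟩ := QuotientGroup.mk_surjective a
    obtain ⟨a, rfl⟩ := QuotientGroup.mk_surjective a
    obtain ⟨b, rfl⟩ := QuotientGroup.mk_surjective b
    obtain ⟨b, rfl⟩ := QuotientGroup.mk_surjective b
    haveI : (pPrimePCore 2 G).Normal := PSolvable.pPrimePCore_normal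
    let q : G →* (G ⧸ O) ⧸ Pb := (QuotientGroup.mk' Pb).comp (QuotientGroup.mk' O)
    have hval : ∀ g : G, ∃ c, σ c = c ∧ q g = q c := fun g => by
      obtain ⟨m, hm, c, hc, rfl⟩ := mem_sup_of_normal_left.mp (h2.ge (mem_top g))
      exact ⟨c, hc, by rw [map_mul, show q m = 1 from (QuotientGroup.eq_one_iff _).mpr hm, one_mul]⟩
    obtain ⟨c, hc, hca⟩ := hval a
    obtain ⟨d, hd, hdb⟩ := hval b
    show q a * q b = q b * q a
    rw [hca, hdb, ← map_mul, ← map_mul, hf.fixed_comm hc hd]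
  haveI : Group.IsSolvable (G ⧸ O) :=
    Group.isSolvable_of_ker_le_range Pb.subtype (QuotientGroup.mk' Pb) (by simp)
  exact Group.isSolvable_of_ker_le_range O.subtype (QuotientGroup.mk' O) (by simp)

end Cfsg.Agent.Lib.S3040Fpf54
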